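import Mathlib

/-!
# Local data of a Sylow `2`-subgroup of `GL₂(q)`, `q` odd, and automorphisms of odd order
-/

set_option autoImplicit false

namespace H14.LF

open Subgroup

section odd

variable {H : Type*} [Group H] {α : MulAut H}

theorem eq_one_of_odd {g : H} {n k : ℕ} (hn : Odd n) (h1 : g ^ n = 1) (h2 : g ^ 2 ^ k = 1) :
    g = 1 := by
  have := pow_gcd_eq_one.2 ⟨h1, h2⟩
  rwa [(Nat.coprime_two_right.2 hn).pow_right k, pow_one] at this

theorem eq_one_of_odd_int {g : H} {n : ℤ} {k : ℕ} (hn : Odd n) (h1 : g ^ n = 1)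
    (h2 : g ^ 2 ^ k = 1) : g = 1 := by
  refine eq_one_of_odd (n := n.natAbs) (Int.natAbs_odd.2 hn) ?_ h2
  rcases Int.natAbs_eq n with h | h
  · rw [h, zpow_natCast] at h1; exact h1
  · rw [h, zpow_neg, zpow_natCast, inv_eq_one] at h1; exact h1

theorem fix_of (ho : Odd (orderOf α)) {x m : H} {k : ℕ} (hm : α m = m) (hx : α x = m * x)
    (h2 : m ^ 2 ^ k = 1) : m = 1 := by
  have h : ∀ n : ℕ, (α ^ n) x = m ^ n * x := fun n => by
    induction n with
    | zero => simp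
    | succ n ih => rw [pow_succ', MulAut.mul_apply, ih, map_mul, map_pow, hm, hx, pow_succ, mul_assoc]
  have := h (orderOf α)
  rw [pow_orderOf_eq_one, MulAut.one_apply, eq_comm, mul_eq_right] at this
  exact eq_one_of_odd ho this h2

theorem fix_cyc (ho : Odd (orderOf α)) {k : ℕ} {g : H} (h2 : g ^ 2 ^ k = 1)
    (h : α g ∈ zpowers g) : α g = g := by
  induction k generalizing g with
  | zero => simp at h2; simp [h2]
  | succ k ih =>
    obtain ⟨r, hr⟩ := mem_zpowers_iff.1 h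
    have h3 : α (g ^ 2) = g ^ 2 := ih (by rw [← pow_mul, ← pow_succ', h2]) ⟨r, by
      show (g ^ 2) ^ r = α (g ^ 2)
      rw [map_pow, ← hr, ← zpow_natCast, ← zpow_mul, ← zpow_natCast, ← zpow_mul, mul_comm]⟩
    have h4 : (g ^ (r - 1)) ^ 2 = 1 := by
      rw [map_pow, ← hr, ← mul_inv_eq_one] at h3
      rw [← h3]
      simp only [← zpow_natCast, ← zpow_mul, ← zpow_sub]
      congr 1
      push_cast
      ring
    rcases Int.even_or_odd r with ⟨t, ht⟩ | ⟨t, ht⟩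
    · have h5 : g ^ 2 = 1 := eq_one_of_odd_int (n := r - 1) (k := k) ⟨t - 1, by omega⟩ (by
        rw [← h4]; simp only [← zpow_natCast, ← zpow_mul, mul_comm]) (by
        rw [← pow_mul, ← pow_succ', h2])
      have h6 : α g = 1 := by
        rw [← hr, ht, ← two_mul, zpow_mul, zpow_ofNat, h5, one_zpow]
      rw [map_eq_one_iff _ α.injective] at h6
      simp [h6]
    · have h5 : g ^ (r - 1) = (g ^ 2) ^ t := by
        rw [ht, add_sub_cancel_right, zpow_mul, zpow_ofNat]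
      have := fix_of (x := g) (m := g ^ (r - 1)) (k := 1) ho (by rw [h5, map_zpow, h3])
        (by rw [← hr, zpow_sub_one, inv_mul_cancel_right]) (by simpa using h4)
      rw [← hr, ← mul_inv_eq_one, ← zpow_sub_one, this]

/-- the subgroups of a cyclic `2`-group form a chain -/
theorem zpow_chain {g : H} {k : ℕ} (h : g ^ 2 ^ k = 1) (m n : ℤ) :
    g ^ m ∈ zpowers (g ^ n) ∨ g ^ n ∈ zpowers (g ^ m) := by
  have key : ∀ m : ℤ, ∃ t : ℕ, g ^ m ∈ zpowers (g ^ 2 ^ t) ∧ g ^ 2 ^ t ∈ zpowers (g ^ m) := by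
    intro m
    by_cases hm : m = 0
    · exact ⟨k, by simp [hm], by simp [h]⟩
    obtain ⟨t, o, ho, e⟩ := Nat.exists_eq_two_pow_mul_odd (Int.natAbs_ne_zero.2 hm)
    have h1 : zpowers (g ^ m) = zpowers ((g ^ 2 ^ t) ^ o) := by
      rw [← pow_mul, ← e]
      rcases Int.natAbs_eq m with h | h
      · rw [← zpow_natCast, ← h]
      · rw [← zpowers_inv, ← zpow_neg, ← zpow_natCast]
        congr 2
        omega
    have h2 : g ^ 2 ^ t ∈ zpowers ((g ^ 2 ^ t) ^ o) := by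
      rw [mem_zpowers_pow_iff]
      have : orderOf (g ^ 2 ^ t) ∣ 2 ^ k := orderOf_dvd_of_pow_eq_one (by
        rw [← pow_mul, mul_comm, pow_mul, h, one_pow])
      exact Nat.Coprime.coprime_dvd_right this ((Nat.coprime_two_right.2 ho).pow_right k)
    refine ⟨t, ?_, h1 ▸ h2⟩
    have := h1 ▸ mem_zpowers (g ^ m)
    exact zpowers_le.2 (pow_mem (mem_zpowers _) o) this
  obtain ⟨s, a1, a2⟩ := key m
  obtain ⟨t, b1, b2⟩ := key n
  have key2 : ∀ s t : ℕ, s ≤ t → g ^ 2 ^ t ∈ zpowers (g ^ 2 ^ s) := fun s t hst => by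
    obtain ⟨d, rfl⟩ := Nat.exists_eq_add_of_le hst
    rw [pow_add, pow_mul]
    exact pow_mem (mem_zpowers _) _
  rcases le_total s t with h | h
  · exact Or.inr (zpowers_le.2 (zpowers_le.2 a2 (key2 s t h)) b1)
  · exact Or.inl (zpowers_le.2 (zpowers_le.2 b2 (key2 t s h)) a1)

end odd

/-- The shape of a Sylow `2`-subgroup `D` of `GL₂(q)`: an abelian subgroup `A` of index two,
the scalars `M`, the determinant. -/
structure Loc (D A M : Type*) [Group D] [CommGroup A] [CommGroup M] where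
  i : A →* D
  s : M →* A
  det : D →* M
  nu : M
  u : A
  a : A
  j : D
  k : ℕ
  inj : Function.Injective i
  sinj : Function.Injective s
  idx : ∀ x, x ∉ i.range → ∀ y, y ∉ i.range → x * y ∈ i.range
  det_s : ∀ c, det (i (s c)) = c ^ 2
  cj : ∀ d, d ∉ i.range → ∀ r, d * i r * d⁻¹ = i (s (det (i r)) * r⁻¹)
  sq : ∀ d, d ∉ i.range → d ^ 2 = i (s (nu * det d))
  fix : ∀ r, r ^ 2 = s (det (i r)) → ∃ c, r = s c
  hj : j ∉ i.range
  dj : det j = 1
  ha : a ^ 2 = u * s (det (i a))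
  gen : ∀ c, c ∈ zpowers (det (i a))
  genU : ∀ v, det (i v) = 1 → v ∈ zpowers u
  uh : u ^ 2 ^ (k + 1) = s nu
  nu1 : nu ≠ 1
  ord : ∀ n : ℤ, u ^ n = 1 → det (i a) ^ n = 1
  invol : ∀ c, c ^ 2 = 1 → c = 1 ∨ c = nu

namespace Loc

variable {D A M : Type*} [Group D] [CommGroup A] [CommGroup M] (L : Loc D A M)

/-- the norm -/
def N : A →* M := L.det.comp L.i

/-- the conjugation -/
def bar : A →* A := (L.s.comp L.N) * invMonoidHom

/-- half the order of `u` -/
def h : ℕ := 2 ^ (L.k + 1)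

theorem N_def (r : A) : L.det (L.i r) = L.N r := rfl

theorem bar_def (r : A) : L.bar r = L.s (L.N r) * r⁻¹ := rfl

theorem N_s (c : M) : L.N (L.s c) = c ^ 2 := L.det_s c

theorem N_bar (r : A) : L.N (L.bar r) = L.N r := by
  rw [bar_def, map_mul, N_s, map_inv, pow_two, mul_inv_cancel_right]

theorem bar_s (c : M) : L.bar (L.s c) = L.s c := by
  rw [bar_def, N_s, map_pow, pow_two, mul_inv_cancel_right]

theorem bar_bar (r : A) : L.bar (L.bar r) = r := by
  rw [bar_def, N_bar, bar_def, mul_inv, inv_inv, mul_inv_cancel_left]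

theorem N_u : L.N L.u = 1 := by
  have := congrArg L.N L.ha
  rwa [map_mul, N_s, map_pow, N_def, eq_comm, mul_eq_right] at this

theorem bar_U {v : A} (h : L.N v = 1) : L.bar v = v⁻¹ := by rw [bar_def, h, map_one, one_mul]

theorem bar_u : L.bar L.u = L.u⁻¹ := L.bar_U L.N_u

theorem a_bar : L.a * (L.bar L.a)⁻¹ = L.u := by
  rw [bar_def, mul_inv, inv_inv, mul_left_comm, ← pow_two, L.ha, N_def, mul_comm L.u,
    inv_mul_cancel_left]

theorem N_div_bar (r : A) : L.N (r * (L.bar r)⁻¹) = 1 := by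
  rw [map_mul, map_inv, N_bar, mul_inv_cancel]

theorem u_h : L.u ^ L.h = L.s L.nu := L.uh

theorem nu2 : L.nu ^ 2 = 1 := by rw [← L.N_s, ← u_h, map_pow, N_u, one_pow]

theorem snu_ne : L.s L.nu ≠ 1 := fun h => L.nu1 (L.sinj (h.trans (map_one _).symm))

theorem u_2h : L.u ^ (2 * L.h) = 1 := by
  rw [mul_comm, pow_mul, u_h, ← map_pow, nu2, map_one]

theorem u_pow : L.u ^ 2 ^ (L.k + 2) = 1 := by rw [pow_succ', ← L.u_2h]; rfl

theorem u2_ne : L.u ^ 2 ≠ 1 := fun h => L.snu_ne (by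
  rw [← u_h, Loc.h, pow_succ', pow_mul, h, one_pow])

theorem u_ne_inv : L.u ≠ L.u⁻¹ := fun h => L.u2_ne (by rw [pow_two, ← eq_inv_iff_mul_eq_one, ← h])

theorem sq_of_sc {v : A} {c : M} (hv : L.N v = 1) (h : v = L.s c) : v ^ 2 = 1 := by
  rw [h, N_s] at hv
  rw [h, ← map_pow, hv, map_one]

theorem u_ne (c : M) : L.u ≠ L.s c := fun h => L.u2_ne (L.sq_of_sc L.N_u h)

theorem u_inv_ne (c : M) : L.u⁻¹ ≠ L.s c := fun h =>
  L.u_ne c⁻¹ (by rw [map_inv, ← h, inv_inv])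

theorem U_2h {v : A} (hv : L.N v = 1) : v ^ (2 * L.h) = 1 := by
  obtain ⟨n, rfl⟩ := L.genU v hv
  simp only
  rw [← zpow_natCast, ← zpow_mul, mul_comm, zpow_mul, zpow_natCast, u_2h, one_zpow]

theorem c_2h (c : M) : c ^ (2 * L.h) = 1 := by
  obtain ⟨n, rfl⟩ := L.gen c
  simp only
  rw [← zpow_natCast, ← zpow_mul, mul_comm, zpow_mul, L.ord _ (by rw [zpow_natCast, u_2h]), one_zpow]

theorem pow_h {w : A} {μ : M} (hw : L.N w = μ ^ 2) : ∃ c, w ^ L.h = L.s c ∧ c ^ 2 = 1 := by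
  obtain ⟨n, hn⟩ := L.genU (w * (L.s μ)⁻¹) (by rw [N_def, map_mul, map_inv, hw, N_s, mul_inv_cancel])
  refine ⟨L.nu ^ n * μ ^ L.h, ?_, ?_⟩
  · simp only at hn
    rw [← inv_mul_cancel_right w (L.s μ), ← hn, mul_pow, map_mul, map_pow, map_zpow, ← u_h]
    simp only [← zpow_natCast, ← zpow_mul, mul_comm]
  · rw [mul_pow, ← pow_mul, mul_comm L.h, c_2h, mul_one, ← zpow_natCast, ← zpow_mul, mul_comm,
      zpow_mul, zpow_natCast, nu2, one_zpow]

theorem chain {v w : A} (hv : L.N v = 1) (hw : L.N w = 1) :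
    v ∈ zpowers w ∨ w ∈ zpowers v := by
  obtain ⟨m, rfl⟩ := L.genU v hv
  obtain ⟨n, rfl⟩ := L.genU w hw
  exact zpow_chain L.u_pow m n

theorem uu1 {r : ℤ} {c : M} (h1 : L.u = L.s c * L.u ^ r) (h2 : L.u⁻¹ = L.s c * L.u ^ r) : False :=
  L.u_ne_inv (h1.trans h2.symm)

theorem uu2 {r : ℤ} {c : M} (h1 : L.u = L.s c * L.u ^ r) (h2 : L.u = L.s c * L.u⁻¹ ^ r) :
    False := by
  have h3 : (L.u ^ r) ^ 2 = 1 := by
    have := mul_left_cancel (h1.symm.trans h2)
    rw [pow_two, ← eq_inv_iff_mul_eq_one, ← inv_zpow, this]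
  have h4 : (L.u * (L.u ^ r)⁻¹) ^ 2 = 1 := L.sq_of_sc (c := c)
    (by rw [map_mul, map_inv, map_zpow, N_u]; simp) (by rw [mul_inv_eq_iff_eq_mul, ← h1])
  rw [mul_pow, inv_pow, h3, inv_one, mul_one] at h4
  exact L.u2_ne h4

theorem u_odd {n : ℤ} (hn : Odd n) : L.u ^ n ≠ 1 := fun h =>
  L.u2_ne (by rw [eq_one_of_odd_int hn h L.u_pow, one_pow])

theorem div_bar_mul (c : M) (r : A) (n : ℤ) :
    L.s c * r ^ n * (L.bar (L.s c * r ^ n))⁻¹ = (r * (L.bar r)⁻¹) ^ n := by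
  rw [map_mul, bar_s, map_zpow, mul_zpow, inv_zpow, mul_inv, mul_mul_mul_comm, mul_inv_cancel,
    one_mul]

theorem a_ne (c : M) (r : ℤ) : L.a ≠ L.s c * L.u ^ r := fun h => by
  have := L.div_bar_mul c L.u r
  rw [← h, a_bar, bar_u, inv_inv, ← pow_two, ← zpow_natCast, ← zpow_mul] at this
  refine L.u_odd (n := 2 * r - 1) ⟨r - 1, by ring⟩ ?_
  rw [zpow_sub_one]
  exact mul_inv_eq_one.2 this.symm

theorem b1 {c : M} {r : ℤ} {v : A} (ha : L.a ^ (2 * L.h) = 1) (hv : L.N v = 1)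
    (h1 : L.u = L.s c * L.a ^ r) (h2 : 1 = L.s c * v ^ r) : False := by
  have h3 := L.div_bar_mul c L.a r
  rw [← h1, a_bar, bar_u, inv_inv, ← zpow_two] at h3
  obtain ⟨t, rfl⟩ : Even r := by
    by_contra h4
    refine L.u_odd (n := r - 2) ((Int.not_even_iff_odd.1 h4).sub_even even_two) ?_
    rw [zpow_sub, ← h3, mul_inv_cancel]
  have h5 : ∀ x : A, x ^ (2 * L.h) = 1 → (x ^ (t + t)) ^ L.h = 1 := fun x hx => by
    rw [← zpow_natCast, ← zpow_mul, show (t + t) * (L.h : ℤ) = ((2 * L.h : ℕ) : ℤ) * t by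
      push_cast; ring, zpow_mul, zpow_natCast, hx, one_zpow]
  have h6 := congrArg (· ^ L.h) h1
  have h7 := congrArg (· ^ L.h) h2
  simp only [mul_pow, h5 _ ha, h5 _ (L.U_2h hv), one_pow, mul_one] at h6 h7
  exact L.snu_ne (by rw [← u_h, h6, ← h7])

open Classical in
/-- the action of `D` on `A` -/
noncomputable def act (d : D) : A →* A := if d ∈ L.i.range then MonoidHom.id A else L.bar

theorem act_of_mem {d : D} (h : d ∈ L.i.range) (r : A) : L.act d r = r := by simp [act, if_pos h]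

theorem act_of_not {d : D} (h : d ∉ L.i.range) (r : A) : L.act d r = L.bar r := by
  simp [act, if_neg h]

theorem conj_i (d : D) (r : A) : d * L.i r * d⁻¹ = L.i (L.act d r) := by
  by_cases h : d ∈ L.i.range
  · rw [L.act_of_mem h]
    obtain ⟨t, rfl⟩ := h
    rw [← map_inv, ← map_mul, ← map_mul, mul_inv_cancel_comm]
  · rw [L.act_of_not h, L.cj d h]; rfl

theorem mul_i (d : D) (r : A) : d * L.i r = L.i (L.act d r) * d := by
  rw [← conj_i, inv_mul_cancel_right]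

theorem N_act (d : D) (r : A) : L.N (L.act d r) = L.N r := by
  by_cases h : d ∈ L.i.range
  · rw [L.act_of_mem h]
  · rw [L.act_of_not h, N_bar]

theorem act_s (d : D) (c : M) : L.act d (L.s c) = L.s c := by
  by_cases h : d ∈ L.i.range
  · rw [L.act_of_mem h]
  · rw [L.act_of_not h, bar_s]

theorem cen (d : D) (c : M) : d * L.i (L.s c) = L.i (L.s c) * d := by rw [mul_i, act_s]

theorem act_u_ne (d : D) (c : M) : L.act d L.u ≠ L.s c := by
  by_cases h : d ∈ L.i.range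
  · rw [L.act_of_mem h]; exact L.u_ne c
  · rw [L.act_of_not h, bar_u]; exact L.u_inv_ne c

theorem fix' {r : A} (h : L.bar r = r) : ∃ c, r = L.s c :=
  L.fix r (by rw [bar_def, mul_inv_eq_iff_eq_mul, ← pow_two] at h; exact h.symm)

theorem mul_not {d : D} (h : d ∉ L.i.range) (r : A) : L.i r * d ∉ L.i.range := fun h' =>
  h ((mul_mem_cancel_left (MonoidHom.mem_range.2 ⟨r, rfl⟩)).1 h')

theorem mul_not' {d : D} (h : d ∉ L.i.range) (r : A) : d * L.i r ∉ L.i.range := fun h' =>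
  h ((mul_mem_cancel_right (MonoidHom.mem_range.2 ⟨r, rfl⟩)).1 h')

theorem conj_not {d : D} (h : d ∉ L.i.range) (g : D) : g * d * g⁻¹ ∉ L.i.range := by
  rintro ⟨r, hr⟩
  refine h ⟨L.act g⁻¹ r, ?_⟩
  rw [← conj_i, hr]
  group

/-- an element commuting with all elements of determinant one outside `A` is a scalar -/
theorem sc_of_comm {w : D} (h : ∀ d, d ∉ L.i.range → L.det d = 1 → w * d = d * w) :
    ∃ c, w = L.i (L.s c) := by
  have h1 := h L.j L.hj L.dj
  have h2 := h (L.j * L.i L.u) (L.mul_not' L.hj _) (by rw [map_mul, L.dj, N_def, N_u, mul_one])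
  rw [← mul_assoc, h1, mul_assoc, mul_assoc, mul_right_inj, mul_i, mul_left_inj] at h2
  by_cases hw : w ∈ L.i.range
  · obtain ⟨r, rfl⟩ := hw
    rw [mul_i, mul_left_inj, L.act_of_not L.hj] at h1
    obtain ⟨c, hc⟩ := L.fix' (L.inj h1).symm
    exact ⟨c, by rw [hc]⟩
  · rw [L.act_of_not hw, bar_u] at h2
    exact (L.u_ne_inv (L.inj h2).symm).elim

end Loc

end H14.LF
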