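import Mathlib
import Cfsg.Agent.Lib.LinF.Loc

/-!
# Coordinates on a Sylow `2`-subgroup of `PSL_n(q)`, `q` odd
-/

set_option autoImplicit false

namespace H14.LF

open Subgroup Equiv

variable {D A M ι : Type*} [Group D] [CommGroup A] [CommGroup M] [Fintype ι] [DecidableEq ι]

omit [Fintype ι] [DecidableEq ι] in
theorem ia (s : Perm ι) (i : ι) : s⁻¹ (s i) = i := s.symm_apply_apply i

omit [Fintype ι] [DecidableEq ι] in
theorem ai (s : Perm ι) (i : ι) : s (s⁻¹ i) = i := s.apply_symm_apply i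

/-- admissible coordinates -/
def Ok (L : Loc D A M) (P : Subgroup (Perm ι)) (ev : Prop) (f : ι → D) (s : Perm ι) : Prop :=
  s ∈ P ∧ (ev → ∏ l, L.det (f l) = 1)

/-- block monomial coordinates on the group `H`; `ev` says that the dimension is even -/
structure Mod (L : Loc D A M) (P : Subgroup (Perm ι)) (ev : Prop) (H : Type*) [Group H] where
  el : (ι → D) → Perm ι → H
  mul : ∀ {f g : ι → D} {s t : Perm ι}, Ok L P ev f s → Ok L P ev g t →
    el f s * el g t = el (fun l => f l * g (s⁻¹ l)) (s * t)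
  surj : ∀ x, ∃ f s, Ok L P ev f s ∧ el f s = x
  one_iff : ∀ {f : ι → D} {s : Perm ι}, Ok L P ev f s →
    (el f s = 1 ↔ s = 1 ∧ ∃ c, (∀ l, f l = L.i (L.s c)) ∧ (ev ∨ c = 1))
  two : IsPGroup 2 H

variable {L : Loc D A M} {P : Subgroup (Perm ι)} {ev : Prop} {f g : ι → D} {s t : Perm ι}

theorem Ok.mul (h : Ok L P ev f s) (h' : Ok L P ev g t) :
    Ok L P ev (fun l => f l * g (s⁻¹ l)) (s * t) :=
  ⟨mul_mem h.1 h'.1, fun e => by
    simp only [map_mul, Finset.prod_mul_distrib]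
    rw [h.2 e, one_mul, ← h'.2 e]
    exact Equiv.prod_comp s⁻¹ fun l => L.det (g l)⟩

theorem Ok.inv (h : Ok L P ev f s) : Ok L P ev (fun l => (f (s l))⁻¹) s⁻¹ :=
  ⟨inv_mem h.1, fun e => by
    simp only [map_inv, Finset.prod_inv_distrib]
    rw [inv_eq_one, ← h.2 e]
    exact Equiv.prod_comp s fun l => L.det (f l)⟩

theorem ok_tau (h : s ∈ P) : Ok L P ev 1 s := ⟨h, fun _ => by simp⟩

theorem prod_single {B : Type*} [Group B] (φ : B →* M) (i : ι) (d : B) :
    ∏ l, φ ((Pi.mulSingle i d : ι → B) l) = φ d := by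
  rw [Finset.prod_eq_single i]
  · simp
  · intro j _ h
    simp [h]
  · simp

theorem ok_single (i : ι) {d : D} (h : ev → L.det d = 1) : Ok L P ev (Pi.mulSingle i d) 1 :=
  ⟨one_mem _, fun e => by rw [prod_single, h e]⟩

theorem ok_single2 (i l : ι) {d d' : D} (h : L.det d * L.det d' = 1) :
    Ok L P ev (Pi.mulSingle i d * Pi.mulSingle l d') 1 :=
  ⟨one_mem _, fun _ => by
    simp only [Pi.mul_apply, map_mul, Finset.prod_mul_distrib, prod_single, h]⟩

/-- the torus -/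
def A0 (L : Loc D A M) (ι : Type*) [Fintype ι] (ev : Prop) : Subgroup (ι → A) where
  carrier := {g | ev → ∏ l, L.N (g l) = 1}
  one_mem' := fun _ => by simp
  mul_mem' := fun {a b} ha hb e => by
    simp only [Pi.mul_apply, map_mul, Finset.prod_mul_distrib, ha e, hb e, mul_one]
  inv_mem' := fun {a} ha e => by
    simp only [Pi.inv_apply, map_inv, Finset.prod_inv_distrib, ha e, inv_one]

theorem ok_base (b : A0 L ι ev) : Ok L P ev (fun l => L.i (b.1 l)) 1 := ⟨one_mem _, b.2⟩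

/-- an element with one nontrivial coordinate -/
def sg (i : ι) (r : A) (h : ev → L.N r = 1) : A0 L ι ev :=
  ⟨Pi.mulSingle i r, fun e => by rw [prod_single, h e]⟩

/-- an element with two nontrivial coordinates -/
def sg2 (i l : ι) (r r' : A) (h : L.N r * L.N r' = 1) : A0 L ι ev :=
  ⟨Pi.mulSingle i r * Pi.mulSingle l r', fun _ => by
    simp only [Pi.mul_apply, map_mul, Finset.prod_mul_distrib, prod_single, h]⟩

theorem sg_val (i : ι) (r : A) (h : ev → L.N r = 1) : (sg i r h).1 = Pi.mulSingle i r := rfl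

theorem sg2_val (i l : ι) (r r' : A) (h : L.N r * L.N r' = 1) :
    (sg2 (ev := ev) i l r r' h).1 = Pi.mulSingle i r * Pi.mulSingle l r' := rfl

/-- the action on the torus -/
noncomputable def cj (f : ι → D) (s : Perm ι) (b : A0 L ι ev) : A0 L ι ev :=
  ⟨fun l => L.act (f l) (b.1 (s⁻¹ l)), fun e => by
    simp only [L.N_act]
    rw [← b.2 e]
    exact Equiv.prod_comp s⁻¹ fun l => L.N (b.1 l)⟩

theorem cj_val (b : A0 L ι ev) (l : ι) : (cj f s b).1 l = L.act (f l) (b.1 (s⁻¹ l)) := rfl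

/-- `u` in the block `i` -/
def su (L : Loc D A M) (ev : Prop) (i : ι) : A0 L ι ev := sg i L.u fun _ => L.N_u

theorem su_val (i : ι) : (su L ev i).1 = Pi.mulSingle i L.u := rfl

omit [Fintype ι] [DecidableEq ι] in
theorem pin (hB : ¬ ev ∨ Nontrivial ι) (i : ι) {c : M} (hc : ev ∨ c = 1)
    (h : ∀ l, l ≠ i → 1 = L.s c) : c = 1 := by
  rcases hB with hB | hB
  · exact hc.resolve_left hB
  · obtain ⟨l, hl⟩ := exists_ne i
    exact L.sinj ((h l hl).symm.trans (map_one _).symm)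

namespace Mod

variable {H : Type*} [Group H] (m : Mod L P ev H)

theorem el_one : m.el 1 1 = 1 :=
  (m.one_iff (ok_tau (one_mem _))).2 ⟨rfl, 1, by simp, Or.inr rfl⟩

theorem el_inv (h : Ok L P ev f s) : (m.el f s)⁻¹ = m.el (fun l => (f (s l))⁻¹) s⁻¹ := by
  rw [inv_eq_iff_mul_eq_one, m.mul h h.inv, ← m.el_one]
  congr 1
  · funext l; simp
  · simp

theorem eq_iff (h : Ok L P ev f s) (h' : Ok L P ev g t) : m.el f s = m.el g t ↔
    s = t ∧ ∃ c, (∀ l, f l = L.i (L.s c) * g l) ∧ (ev ∨ c = 1) := by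
  rw [← mul_inv_eq_one, m.el_inv h', m.mul h h'.inv, m.one_iff (h.mul h'.inv), mul_inv_eq_one]
  refine and_congr_right ?_
  rintro rfl
  simp [mul_inv_eq_iff_eq_mul]

/-- the image of the torus -/
def bs : A0 L ι ev →* H :=
  MonoidHom.mk' (fun b => m.el (fun l => L.i (b.1 l)) 1) fun a b => by
    rw [m.mul (ok_base a) (ok_base b), mul_one]
    congr 1
    funext l
    simp

theorem bs_def (b : A0 L ι ev) : m.bs b = m.el (fun l => L.i (b.1 l)) 1 := rfl

theorem bs_eq_iff {b b' : A0 L ι ev} :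
    m.bs b = m.bs b' ↔ ∃ c, (∀ l, b.1 l = L.s c * b'.1 l) ∧ (ev ∨ c = 1) := by
  rw [bs_def, bs_def, m.eq_iff (ok_base b) (ok_base b')]
  simp only [true_and, ← map_mul, L.inj.eq_iff]

theorem bs_eq_one {b : A0 L ι ev} : m.bs b = 1 ↔ ∃ c, (∀ l, b.1 l = L.s c) ∧ (ev ∨ c = 1) := by
  rw [← map_one m.bs, bs_eq_iff]
  simp

theorem conj_bs (h : Ok L P ev f s) (b : A0 L ι ev) :
    m.el f s * m.bs b * (m.el f s)⁻¹ = m.bs (cj f s b) := by
  rw [mul_inv_eq_iff_eq_mul, bs_def, bs_def, m.mul h (ok_base b), m.mul (ok_base _) h]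
  congr 1
  funext l
  simp [cj_val, L.mul_i]

theorem mem_range (h : Ok L P ev f 1) (h' : ∀ l, f l ∈ L.i.range) : m.el f 1 ∈ m.bs.range := by
  choose g hg using h'
  obtain rfl : f = fun l => L.i (g l) := funext fun l => (hg l).symm
  exact ⟨⟨g, h.2⟩, rfl⟩

theorem normal : m.bs.range.Normal := ⟨by
  rintro _ ⟨b, rfl⟩ x
  obtain ⟨f, s, h, rfl⟩ := m.surj x
  exact ⟨_, (m.conj_bs h b).symm⟩⟩

theorem comm {a b : H} (ha : a ∈ m.bs.range) (hb : b ∈ m.bs.range) : a * b = b * a := by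
  obtain ⟨a, rfl⟩ := ha
  obtain ⟨b, rfl⟩ := hb
  rw [← map_mul, mul_comm, map_mul]

theorem su_sq (hn : (¬ ev ∨ Nontrivial ι) ∨ L.u ^ 4 ≠ 1) (i : ι) : m.bs (su L ev i) ^ 2 ≠ 1 := by
  rw [← map_pow, Ne, bs_eq_one]
  rintro ⟨c, h1, h2⟩
  have h3 := h1 i
  simp only [SubmonoidClass.coe_pow, su_val, Pi.pow_apply, Pi.mulSingle_eq_same] at h3
  rcases hn with hn | hn
  · have := pin (L := L) hn i h2 fun l hl => by simpa [su_val, hl] using h1 l
    exact L.u2_ne (by rw [h3, this, map_one])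
  · exact hn (by
      rw [show 4 = 2 * 2 from rfl, pow_mul]
      exact L.sq_of_sc (by rw [map_pow, L.N_u, one_pow]) h3)

/-- the torus is self-centralising -/
theorem cent (hn : (¬ ev ∨ Nontrivial ι) ∨ L.u ^ 4 ≠ 1) {x : H}
    (hx : ∀ b, x * m.bs b * x⁻¹ = m.bs b) : x ∈ m.bs.range := by
  obtain ⟨f, s, h, rfl⟩ := m.surj x
  have key := fun i => m.bs_eq_iff.1 ((m.conj_bs h (su L ev i)).symm.trans (hx _))
  obtain rfl : s = 1 := by
    ext i
    by_contra hi
    rw [Perm.one_apply] at hi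
    obtain ⟨c, h1, -⟩ := key i
    have := h1 (s i)
    rw [cj_val, su_val, ia, Pi.mulSingle_eq_same, Pi.mulSingle_eq_of_ne hi,
      mul_one] at this
    exact L.act_u_ne _ _ this
  refine m.mem_range h fun i => by_contra fun hi => m.su_sq hn i ?_
  obtain ⟨c, h1, h2⟩ := key i
  rw [← map_pow, bs_eq_one]
  refine ⟨c⁻¹, fun l => ?_, h2.imp id fun h => by rw [h, inv_one]⟩
  have := h1 l
  rw [cj_val, su_val, inv_one, Perm.one_apply] at this
  by_cases hl : l = i
  · subst hl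
    rw [Pi.mulSingle_eq_same, L.act_of_not hi, L.bar_u, inv_eq_iff_mul_eq_one] at this
    simp only [SubmonoidClass.coe_pow, su_val, Pi.pow_apply, Pi.mulSingle_eq_same]
    rw [map_inv, eq_inv_iff_mul_eq_one, ← this, pow_two, mul_assoc, mul_comm (L.s c)]
  · rw [Pi.mulSingle_eq_of_ne hl, map_one, mul_one] at this
    simp [su_val, hl, ← this]

theorem sq_eq_one (h : Ok L P ev f s) (e : ev) (hs : s * s = 1) {c : M}
    (hc : ∀ l, f l * f (s⁻¹ l) = L.i (L.s c)) : m.el f s ^ 2 = 1 := by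
  rw [pow_two, m.mul h h, m.one_iff (h.mul h)]
  exact ⟨hs, c, hc, Or.inl e⟩

theorem comm_conj (h : Ok L P ev f s) (h' : Ok L P ev g 1)
    (hc : Commute (m.el f s) (m.el g 1 * m.el f s * (m.el g 1)⁻¹)) :
    ∃ c, (∀ l, f l * (g (s⁻¹ l) * f (s⁻¹ l) * (g (s⁻¹ (s⁻¹ l)))⁻¹) =
      L.i (L.s c) * (g l * f l * (g (s⁻¹ l))⁻¹ * f (s⁻¹ l))) ∧ (ev ∨ c = 1) := by
  have h3 := (h'.mul h).mul h'.inv
  rw [m.el_inv h', m.mul h' h, m.mul (h'.mul h) h'.inv, Commute, SemiconjBy, m.mul h h3,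
    m.mul h3 h, m.eq_iff (h.mul h3) (h3.mul h)] at hc
  simpa using hc.2

theorem pi_perm (h : Ok L P ev f s) (h1 : m.el f s ^ 2 ≠ 1)
    (h2 : ∀ y, Commute (m.el f s) (y * m.el f s * y⁻¹)) : s = 1 := by
  ext i
  by_contra hi
  rw [Perm.one_apply] at hi
  have hi' : s⁻¹ i ≠ i := fun e => hi (by rw [← e, ai, e])
  have key : ∀ d, d ∉ L.i.range → L.det d = 1 → ev ∧ (∀ l, l = i ∨ l = s i) ∧
      f i * f (s i) * d = d * (f i * f (s i)) := fun d hd hd' => by
    obtain ⟨c, h3, h4⟩ := m.comm_conj h (ok_single i fun _ => hd') (h2 _)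
    have h5 := h3 (s i)
    rw [ia, Pi.mulSingle_eq_same, Pi.mulSingle_eq_of_ne hi,
      Pi.mulSingle_eq_of_ne hi', one_mul, inv_one, mul_one, mul_assoc, ← mul_assoc (L.i _),
      ← L.cen, mul_assoc, mul_right_inj, ← mul_assoc, mul_left_inj, eq_mul_inv_iff_mul_eq,
      ← pow_two] at h5
    have h6 : c = L.nu := by
      have := L.sq d hd
      rw [hd', mul_one, h5] at this
      exact L.sinj (L.inj this)
    subst h6
    have h7 := h3 i
    rw [Pi.mulSingle_eq_same, Pi.mulSingle_eq_of_ne hi', one_mul, inv_one, mul_one] at h7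
    have h8 : s⁻¹ (s⁻¹ i) = i := by
      by_contra h8
      rw [Pi.mulSingle_eq_of_ne h8, inv_one, mul_one, mul_assoc, ← mul_assoc, right_eq_mul] at h7
      exact L.mul_not hd _ (h7 ▸ one_mem _)
    have h9 : s⁻¹ i = s i := by rw [← h8, ai, h8]
    refine ⟨h4.resolve_right L.nu1, fun l => ?_, ?_⟩
    · by_contra hl
      push Not at hl
      have a1 : s⁻¹ l ≠ i := fun e => hl.2 (by rw [← e, ai])
      have a2 : s⁻¹ (s⁻¹ l) ≠ i := fun e => hl.1 (s⁻¹.injective (s⁻¹.injective (e.trans h8.symm)))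
      have := h3 l
      rw [Pi.mulSingle_eq_of_ne hl.1, Pi.mulSingle_eq_of_ne a1, Pi.mulSingle_eq_of_ne a2] at this
      simp only [one_mul, inv_one, mul_one, right_eq_mul] at this
      exact L.snu_ne (L.inj (this.trans (map_one _).symm))
    · have h10 : L.i (L.s L.nu) * d = d⁻¹ := by
        rw [eq_inv_iff_mul_eq_one, mul_assoc, ← pow_two, h5, ← map_mul, ← map_mul, ← pow_two,
          L.nu2, map_one, map_one]
      rw [h8, Pi.mulSingle_eq_same, h9, ← mul_assoc, mul_assoc d, ← mul_assoc (L.i _), h10] at h7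
      exact Commute.inv_right_iff.1 h7
  obtain ⟨e, hl, -⟩ := key L.j L.hj L.dj
  obtain ⟨c, hc⟩ := L.sc_of_comm fun d hd hd' => (key d hd hd').2.2
  have hk : s (s i) = i := (hl _).resolve_right fun e => hi (s.injective e)
  refine h1 (m.sq_eq_one h e ?_ (c := c) fun l => ?_)
  · ext l
    rcases hl l with rfl | rfl
    · exact hk
    · exact congrArg s hk
  · rcases hl l with rfl | rfl
    · rw [← hc, Perm.inv_eq_iff_eq.2 hk.symm]
    · rw [ia, ← mul_inv_cancel_right (f (s i) * f i) (f (s i)), mul_assoc (f _),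
        hc, L.cen, mul_inv_cancel_right]

theorem pi_key (h : Ok L P ev f 1) (h' : Ok L P ev g 1)
    (hc : Commute (m.el f 1) (m.el g 1 * m.el f 1 * (m.el g 1)⁻¹)) {i : ι} (hi : f i ∉ L.i.range)
    {r : A} (hr : g i = L.i r) (hp : ¬ ev ∨ ∃ l, Commute (g l) (f l)) :
    (r * (L.bar r)⁻¹) ^ 2 = 1 := by
  obtain ⟨c, h1, h2⟩ := m.comm_conj h h' hc
  simp only [inv_one, Perm.one_apply] at h1
  obtain rfl : c = 1 := by
    rcases hp with hp | ⟨l, hl⟩
    · exact h2.resolve_left hp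
    · have := h1 l
      rw [hl.eq, mul_inv_cancel_right, right_eq_mul] at this
      exact L.sinj (L.inj (this.trans (by simp)))
  have h3 := h1 i
  have h4 : L.i r * f i * (L.i r)⁻¹ = L.i (r * (L.bar r)⁻¹) * f i := by
    rw [← map_inv, mul_assoc, L.mul_i, L.act_of_not hi, map_mul, map_inv, mul_assoc]
  rw [hr, h4, map_one, map_one, one_mul, ← mul_assoc, mul_left_inj, L.mul_i, mul_left_inj,
    L.act_of_not hi, L.bar_U (L.N_div_bar r)] at h3
  rw [pow_two, ← eq_inv_iff_mul_eq_one, L.inj h3]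

theorem pi_base (h : Ok L P ev f 1) (h1 : m.el f 1 ^ 2 ≠ 1)
    (h2 : ∀ y, Commute (m.el f 1) (y * m.el f 1 * y⁻¹)) (i : ι) : f i ∈ L.i.range := by
  by_contra hi
  by_cases e : ev
  swap
  · have := m.pi_key h (ok_single i (d := L.i L.a) fun e' => (e e').elim) (h2 _) hi
      (Pi.mulSingle_eq_same _ _) (Or.inl e)
    exact L.u2_ne (L.a_bar ▸ this)
  have key : ∀ l, l ≠ i → ∀ l', Commute ((Pi.mulSingle i (L.i L.a) *
      Pi.mulSingle l (L.i L.a⁻¹) : ι → D) l') (f l') → False := fun l hl l' hc => by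
    have := m.pi_key h (ok_single2 i l (by simp)) (h2 _) hi (r := L.a) (by simp [hl.symm])
      (Or.inr ⟨l', hc⟩)
    exact L.u2_ne (L.a_bar ▸ this)
  have h3 : ∀ l, f l ∉ L.i.range := fun l hl => by
    have h4 : l ≠ i := fun e => hi (e ▸ hl)
    obtain ⟨r, hr⟩ := hl
    refine key l h4 l ?_
    rw [← hr, Pi.mul_apply, Pi.mulSingle_eq_of_ne h4, Pi.mulSingle_eq_same, one_mul]
    exact (Commute.all _ _).map _
  refine h1 (m.sq_eq_one h e (mul_one _) (c := L.nu * L.det (f i)) fun l => ?_)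
  rw [inv_one, Perm.one_apply, ← pow_two, L.sq _ (h3 l)]
  by_cases hl : l = i
  · rw [hl]
  have h4 : ∀ l', l' = i ∨ l' = l := fun l' => by
    by_contra h5
    push Not at h5
    exact key l hl l' (by simp [h5.1, h5.2])
  have h5 : L.det (f i) * L.det (f l) = 1 := by
    rw [← h.2 e, ← Finset.prod_pair (f := fun l => L.det (f l)) (Ne.symm hl)]
    exact Finset.prod_congr (by ext l'; simpa using h4 l') fun _ _ => rfl
  obtain ⟨n, hn⟩ := L.gen (L.det (f i))
  simp only at hn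
  have h6 := m.pi_key h (ok_single2 i l (d := L.i (L.a ^ n)) (d' := f l) (by
    rw [map_zpow, map_zpow, hn, h5])) (h2 _) hi (r := L.a ^ n) (by simp [Ne.symm hl])
    (Or.inr ⟨l, by simp [hl]⟩)
  rw [map_zpow, ← inv_zpow, ← mul_zpow, L.a_bar, ← zpow_natCast, ← zpow_mul] at h6
  have h7 := L.ord _ h6
  rw [zpow_mul, hn, zpow_natCast, pow_two, ← h5, mul_right_inj] at h7
  rw [h7]

theorem pi_mem {x : H} (h1 : x ^ 2 ≠ 1) (h2 : ∀ y, Commute x (y * x * y⁻¹)) :
    x ∈ m.bs.range := by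
  obtain ⟨f, s, h, rfl⟩ := m.surj x
  obtain rfl := m.pi_perm h h1 h2
  exact m.mem_range h (m.pi_base h h1 h2)

/-- the torus is characteristic -/
theorem map_mem [Nonempty ι] (hn : (¬ ev ∨ Nontrivial ι) ∨ L.u ^ 4 ≠ 1) (α : MulAut H) {a : H}
    (ha : a ∈ m.bs.range) : α a ∈ m.bs.range := by
  have key : ∀ a ∈ m.bs.range, a ^ 2 ≠ 1 → α a ∈ m.bs.range := fun a ha h => by
    refine m.pi_mem (by rwa [← map_pow, Ne, map_eq_one_iff _ α.injective]) fun y => ?_
    obtain ⟨y, rfl⟩ := α.surjective y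
    rw [← map_inv, ← map_mul, ← map_mul]
    exact Commute.map (m.comm ha (m.normal.conj_mem _ ha y)) α
  by_cases h : a ^ 2 = 1
  swap
  · exact key a ha h
  obtain ⟨i⟩ := ‹Nonempty ι›
  have h0 : m.bs (su L ev i) ∈ m.bs.range := ⟨_, rfl⟩
  have := mul_mem (key _ (mul_mem ha h0) (by
    rw [Commute.mul_pow (m.comm ha h0), h, one_mul]; exact m.su_sq hn i))
    (inv_mem (key _ h0 (m.su_sq hn i)))
  rwa [map_mul, mul_inv_cancel_right] at this

end Mod

end H14.LF
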