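import Mathlib
import Cfsg.Agent.Lib.LinF.Mod

/-!
# The reflections of the torus
-/

set_option autoImplicit false

namespace H14.LF

open Subgroup Equiv
open scoped commutatorElement

variable {D A M ι : Type*} [Group D] [CommGroup A] [CommGroup M] [Fintype ι] [DecidableEq ι]
  {L : Loc D A M} {P : Subgroup (Perm ι)} {ev : Prop} {f g : ι → D} {s t : Perm ι}

/-- commutators in coordinates -/
noncomputable def kap (f : ι → D) (s : Perm ι) (b : A0 L ι ev) : A0 L ι ev := b * (cj f s b)⁻¹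

theorem kap_val (b : A0 L ι ev) (l : ι) :
    (kap f s b).1 l = b.1 l * (L.act (f l) (b.1 (s⁻¹ l)))⁻¹ := rfl

theorem exists_a (hB : ¬ ev ∨ Nontrivial ι) (i : ι) : ∃ b : A0 L ι ev, b.1 i = L.a := by
  rcases hB with hB | hB
  · exact ⟨sg i L.a fun e => (hB e).elim, Pi.mulSingle_eq_same _ _⟩
  · obtain ⟨l, hl⟩ := exists_ne i
    exact ⟨sg2 i l L.a L.a⁻¹ (by simp), by simp [sg2_val, hl.symm]⟩

namespace Mod

variable {H : Type*} [Group H] (m : Mod L P ev H)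

theorem comm_bs (h : Ok L P ev f s) (b : A0 L ι ev) : ⁅m.bs b, m.el f s⁆ = m.bs (kap f s b) := by
  rw [kap, map_mul, map_inv, ← m.conj_bs h, commutatorElement_def]
  group

/-- `[A, x]` is cyclic of the order of `u` -/
structure Th (x : H) : Prop where
  chain : ∀ a ∈ m.bs.range, ∀ b ∈ m.bs.range, ⁅a, x⁆ ∈ zpowers ⁅b, x⁆ ∨ ⁅b, x⁆ ∈ zpowers ⁅a, x⁆
  pow : ∀ a ∈ m.bs.range, ⁅a, x⁆ ^ (2 * L.h) = 1
  ex : ∃ a ∈ m.bs.range, ⁅a, x⁆ ^ L.h ≠ 1

variable {m}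

theorem Th.map [Nonempty ι] (hn : (¬ ev ∨ Nontrivial ι) ∨ L.u ^ 4 ≠ 1) (α : MulAut H) {x : H}
    (h : m.Th x) : m.Th (α x) := by
  have key : ∀ a, ⁅a, α x⁆ = α ⁅α⁻¹ a, x⁆ := fun a => by simp [map_commutatorElement]
  have k2 : ∀ a b : H, a ∈ zpowers b → α a ∈ zpowers (α b) := by
    rintro _ b ⟨n, rfl⟩
    exact ⟨n, (map_zpow α b n).symm⟩
  refine ⟨fun a ha b hb => ?_, fun a ha => ?_, ?_⟩
  · rw [key, key]
    exact (h.chain _ (m.map_mem hn α⁻¹ ha) _ (m.map_mem hn α⁻¹ hb)).imp (k2 _ _) (k2 _ _)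
  · rw [key, ← map_pow, h.pow _ (m.map_mem hn α⁻¹ ha), map_one]
  · obtain ⟨a, ha, h1⟩ := h.ex
    refine ⟨_, m.map_mem hn α ha, ?_⟩
    rwa [← map_commutatorElement, ← map_pow, Ne, map_eq_one_iff _ α.injective]

theorem Th.cmp (h : Ok L P ev f s) (hT : m.Th (m.el f s)) (b b' : A0 L ι ev) :
    (∃ (r : ℤ) (c : M), (∀ l, (kap f s b).1 l = L.s c * (kap f s b').1 l ^ r) ∧ (ev ∨ c = 1)) ∨
    (∃ (r : ℤ) (c : M), (∀ l, (kap f s b').1 l = L.s c * (kap f s b).1 l ^ r) ∧ (ev ∨ c = 1)) := by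
  have key : ∀ b b' : A0 L ι ev, m.bs b ∈ zpowers (m.bs b') →
      ∃ (r : ℤ) (c : M), (∀ l, b.1 l = L.s c * b'.1 l ^ r) ∧ (ev ∨ c = 1) := by
    rintro b b' ⟨r, hr⟩
    exact ⟨r, m.bs_eq_iff.1 (hr.symm.trans (map_zpow m.bs b' r).symm)⟩
  have := hT.chain _ ⟨b, rfl⟩ _ ⟨b', rfl⟩
  rw [m.comm_bs h, m.comm_bs h] at this
  exact this.imp (key _ _) (key _ _)

theorem Th.uu (h : Ok L P ev f s) (hT : m.Th (m.el f s)) (b b' : A0 L ι ev) (i k : ι)
    (h1 : (kap f s b).1 i = L.u) (h2 : (kap f s b).1 k = L.u⁻¹) (h3 : (kap f s b').1 i = L.u)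
    (h4 : (kap f s b').1 k = L.u) : False := by
  rcases hT.cmp h b b' with ⟨r, c, h5, -⟩ | ⟨r, c, h5, -⟩
  · exact L.uu1 (r := r) (c := c) (by simpa only [h1, h3] using h5 i)
      (by simpa only [h2, h4] using h5 k)
  · exact L.uu2 (r := r) (c := c) (by simpa only [h1, h3] using h5 i)
      (by simpa only [h2, h4] using h5 k)

theorem Th.base (h : Ok L P ev f 1) (hT : m.Th (m.el f 1)) :
    ∃ i, f i ∉ L.i.range ∧ ∀ l, l ≠ i → f l ∈ L.i.range := by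
  obtain ⟨i, hi⟩ : ∃ i, f i ∉ L.i.range := by
    by_contra h1
    push Not at h1
    obtain ⟨a, ha, h2⟩ := hT.ex
    exact h2 (by rw [commutatorElement_eq_one_iff_mul_comm.2 (m.comm ha (m.mem_range h h1)), one_pow])
  refine ⟨i, hi, fun l hl => by_contra fun hl' => ?_⟩
  refine hT.uu h (sg2 i l L.a L.a⁻¹ (by simp)) (sg2 i l L.a (L.bar L.a)⁻¹ (by simp [L.N_bar])) i l
    ?_ ?_ ?_ ?_
  · simp [kap_val, sg2_val, hl.symm, L.act_of_not hi, L.a_bar]
  · simp [kap_val, sg2_val, hl, L.act_of_not hl', ← L.a_bar, mul_comm]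
  · simp [kap_val, sg2_val, hl.symm, L.act_of_not hi, L.a_bar]
  · simp [kap_val, sg2_val, hl, L.act_of_not hl', ← L.a_bar, mul_comm, L.bar_bar]

theorem kap_su {i : ι} (hi : s i ≠ i) : (kap f s (su L ev i)).1 i = L.u ∧
    (kap f s (su L ev i)).1 (s i) = (L.act (f (s i)) L.u)⁻¹ ∧
    ∀ l, l ≠ i → l ≠ s i → (kap f s (su L ev i)).1 l = 1 := by
  have hi' : s⁻¹ i ≠ i := fun e => hi (by rw [← e, ai, e])
  refine ⟨by rw [kap_val, su_val, Pi.mulSingle_eq_of_ne hi']; simp,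
    by rw [kap_val, ia]; simp [su_val, hi], fun l h1 h2 => ?_⟩
  have : s⁻¹ l ≠ i := fun e => h2 (by rw [← e, ai])
  rw [kap_val, su_val, Pi.mulSingle_eq_of_ne this]
  simp [h1]

theorem Th.moved (h : Ok L P ev f s) (hT : m.Th (m.el f s)) {i : ι} (hi : s i ≠ i) {l : ι}
    (h1 : l ≠ i) (h2 : l ≠ s i) : s l = l := by
  by_contra hl
  obtain ⟨-, a2, a3⟩ := kap_su (L := L) (ev := ev) (f := f) hi
  obtain ⟨b1, -, b3⟩ := kap_su (L := L) (ev := ev) (f := f) hl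
  rcases hT.cmp h (su L ev i) (su L ev l) with ⟨r, c, h5, -⟩ | ⟨r, c, h5, -⟩
  · have := h5 (s i)
    rw [a2, b3 _ h2.symm (s.injective.ne h1.symm), one_zpow, mul_one, inv_eq_iff_eq_inv,
      ← map_inv] at this
    exact L.act_u_ne _ _ this
  · have := h5 l
    rw [b1, a3 l h1 h2, one_zpow, mul_one] at this
    exact L.u_ne _ this

theorem Th.b1 (h : Ok L P ev f s) (hT : m.Th (m.el f s)) {i : ι} (hi : s i ≠ i) (b : A0 L ι ev)
    (hb : (kap f s b).1 i = L.a) {v : A} (hv : L.N v = 1)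
    (hp : (¬ ev ∧ v = 1) ∨ ∃ l, l ≠ i ∧ l ≠ s i ∧ (kap f s b).1 l = v) : False := by
  obtain ⟨a1, -, a3⟩ := kap_su (L := L) (ev := ev) (f := f) hi
  have h1 := hT.pow _ ⟨b, rfl⟩
  rw [m.comm_bs h, ← map_pow, bs_eq_one] at h1
  obtain ⟨c, h1, h2⟩ := h1
  simp only [SubmonoidClass.coe_pow, Pi.pow_apply] at h1
  have h3 : L.a ^ (2 * L.h) = 1 := by
    rw [← hb, h1]
    rcases hp with hp | ⟨l, -, -, hl⟩
    · rw [h2.resolve_left hp.1, map_one]
    · rw [← h1 l, hl, L.U_2h hv]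
  rcases hT.cmp h b (su L ev i) with ⟨r, c, h5, -⟩ | ⟨r, c, h5, h6⟩
  · exact L.a_ne c r (by rw [← hb, h5, a1])
  · refine L.b1 (c := c) (r := r) h3 hv (by rw [← a1, h5, hb]) ?_
    rcases hp with hp | ⟨l, l1, l2, hl⟩
    · simp [h6.resolve_left hp.1, hp.2]
    · rw [← a3 l l1 l2, h5, hl]

theorem Th.perm (h : Ok L P ev f s) (hT : m.Th (m.el f s)) : s = 1 := by
  ext i
  by_contra hi
  rw [Perm.one_apply] at hi
  have hi' : s⁻¹ i ≠ i := fun e => hi (by rw [← e, ai, e])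
  have hk : s (s i) = i := by
    by_contra hk
    by_cases hk' : s (s i) = s i
    · exact hi (s.injective hk')
    · exact hk' (s.injective (hT.moved h hi hk hk'))
  have hk' : s⁻¹ i = s i := Perm.inv_eq_iff_eq.2 hk.symm
  by_cases e : ev
  swap
  · exact hT.b1 h hi (sg i L.a fun e' => (e e').elim) (by rw [kap_val, hk']; simp [sg_val, hi])
      (map_one _) (Or.inl ⟨e, rfl⟩)
  have h3 : ∀ l, l = i ∨ l = s i := fun l => by
    by_contra hl
    push Not at hl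
    have h4 : s⁻¹ l = l := Perm.inv_eq_iff_eq.2 (hT.moved h hi hl.1 hl.2).symm
    refine hT.b1 h hi (sg2 i l L.a L.a⁻¹ (by simp))
      (by rw [kap_val, hk']; simp [sg2_val, hl.1.symm, hl.2.symm, hi]) ?_
      (Or.inr ⟨l, hl.1, hl.2, rfl⟩)
    simp only [kap_val, h4, map_mul, map_inv, L.N_act, mul_inv_cancel]
  obtain ⟨a1, a2, -⟩ := kap_su (L := L) (ev := ev) (f := f) hi
  obtain ⟨b1, b2, -⟩ := kap_su (L := L) (ev := ev) (f := f) (s.injective.ne hi)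
  rw [hk] at b2
  have key : (∀ r, L.act (f i) r = r ∧ L.act (f (s i)) r = r) ∨
      ∀ r, L.act (f i) r = L.bar r ∧ L.act (f (s i)) r = L.bar r := by
    by_cases c1 : f i ∈ L.i.range <;> by_cases c2 : f (s i) ∈ L.i.range
    · exact Or.inl fun r => ⟨L.act_of_mem c1 r, L.act_of_mem c2 r⟩
    · rw [L.act_of_mem c1] at b2
      rw [L.act_of_not c2, L.bar_u, inv_inv] at a2
      exact (hT.uu h _ _ _ _ b1 b2 a2 a1).elim
    · rw [L.act_of_mem c2] at a2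
      rw [L.act_of_not c1, L.bar_u, inv_inv] at b2
      exact (hT.uu h _ _ _ _ a1 a2 b2 b1).elim
    · exact Or.inr fun r => ⟨L.act_of_not c1 r, L.act_of_not c2 r⟩
  obtain ⟨_, ⟨b, rfl⟩, h4⟩ := hT.ex
  refine h4 ?_
  rw [m.comm_bs h, ← map_pow, bs_eq_one]
  have h5 : L.N (b.1 i) * L.N (b.1 (s i)) = 1 := by
    rw [← b.2 e, ← Finset.prod_pair (f := fun l => L.N (b.1 l)) (Ne.symm hi)]
    exact Finset.prod_congr (by ext l'; simpa using h3 l') fun _ _ => rfl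
  have h6 : L.N ((kap f s b).1 i) = L.N (b.1 i) ^ 2 := by
    rw [kap_val, hk', map_mul, map_inv, L.N_act, pow_two, inv_eq_of_mul_eq_one_left h5]
  obtain ⟨c, h7, h8⟩ := L.pow_h h6
  refine ⟨c, fun l => ?_, Or.inl e⟩
  simp only [SubmonoidClass.coe_pow, Pi.pow_apply]
  rcases h3 l with rfl | rfl
  · exact h7
  rcases key with key | key
  · have : (kap f s b).1 (s i) = ((kap f s b).1 i)⁻¹ := by
      rw [kap_val, kap_val, ia, hk', (key _).1, (key _).2, mul_inv_rev, inv_inv]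
    rw [this, inv_pow, h7, ← map_inv, inv_eq_of_mul_eq_one_left (pow_two c ▸ h8)]
  · have : (kap f s b).1 (s i) = (L.bar ((kap f s b).1 i))⁻¹ := by
      rw [kap_val, kap_val, ia, hk', (key _).1, (key _).2, map_mul, map_inv, L.bar_bar,
        mul_inv_rev, inv_inv]
    rw [this, L.bar_def, h6, mul_inv, inv_inv, mul_pow, h7, inv_pow, ← map_pow, ← pow_mul, L.c_2h,
      map_one, inv_one, one_mul]

variable (m)

/-- the reflection in the block `i` -/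
def tt (i : ι) : H := m.el (Pi.mulSingle i L.j) 1

theorem ok_tt (i : ι) : Ok L P ev (Pi.mulSingle i L.j) 1 := ok_single i fun _ => L.dj

theorem comm_tt (i : ι) (b : A0 L ι ev) : ⁅m.bs b, m.tt i⁆ =
    m.bs (sg i (b.1 i * (L.bar (b.1 i))⁻¹) fun _ => L.N_div_bar _) := by
  rw [tt, m.comm_bs (ok_tt i)]
  congr 1
  ext l
  rw [kap_val, sg_val, inv_one, Perm.one_apply]
  by_cases hl : l = i
  · subst hl
    rw [Pi.mulSingle_eq_same, Pi.mulSingle_eq_same, L.act_of_not L.hj]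
  · rw [Pi.mulSingle_eq_of_ne hl, Pi.mulSingle_eq_of_ne hl, L.act_of_mem (one_mem _),
      mul_inv_cancel]

theorem sg_mem (i : ι) {v w : A} (hv : ev → L.N v = 1) (hw : ev → L.N w = 1) (h : v ∈ zpowers w) :
    m.bs (sg i v hv) ∈ zpowers (m.bs (sg i w hw)) := by
  obtain ⟨n, rfl⟩ := h
  exact ⟨n, (map_zpow m.bs _ n).symm.trans (congrArg _
    (Subtype.ext (Pi.mulSingle_zpow (f := fun _ => A) i w n).symm))⟩

theorem sg_pow (i : ι) {v : A} (hv : ev → L.N v = 1) (n : ℕ) :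
    m.bs (sg i v hv) ^ n = m.bs (sg i (v ^ n) fun e => by rw [map_pow, hv e, one_pow]) :=
  (map_pow m.bs _ n).symm.trans (congrArg _
    (Subtype.ext (Pi.mulSingle_pow (f := fun _ => A) i v n).symm))

theorem sg_eq_one (hB : ¬ ev ∨ Nontrivial ι) (i : ι) {v : A} (hv : ev → L.N v = 1)
    (h : m.bs (sg i v hv) = 1) : v = 1 := by
  obtain ⟨c, h1, h2⟩ := m.bs_eq_one.1 h
  have := pin (L := L) hB i h2 fun l hl => by simpa [sg_val, hl] using h1 l
  simpa [this, sg_val] using h1 i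

theorem th_tt (hB : ¬ ev ∨ Nontrivial ι) (i : ι) : m.Th (m.tt i) := by
  refine ⟨?_, ?_, ?_⟩
  · rintro _ ⟨a, rfl⟩ _ ⟨b, rfl⟩
    rw [comm_tt, comm_tt]
    exact (L.chain (L.N_div_bar _) (L.N_div_bar _)).imp (m.sg_mem i _ _) (m.sg_mem i _ _)
  · rintro _ ⟨a, rfl⟩
    rw [comm_tt, sg_pow, ← map_one m.bs]
    congr 1
    ext1
    rw [sg_val, L.U_2h (L.N_div_bar _), Pi.mulSingle_one]
    rfl
  · obtain ⟨b, hb⟩ := exists_a (L := L) hB i
    refine ⟨_, ⟨b, rfl⟩, fun h => L.snu_ne ?_⟩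
    rw [comm_tt, sg_pow] at h
    have := m.sg_eq_one hB i _ h
    rwa [hb, L.a_bar, L.u_h] at this

end Mod

end H14.LF
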