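import Mathlib
import Cfsg.Agent.Lib.LinF.Theta

/-!
# A Sylow `2`-subgroup of `PSL_n(q)`, `q` odd, has no automorphism of odd order (coordinates)
-/

set_option autoImplicit false

namespace H14.LF

open Subgroup Equiv
open scoped commutatorElement

variable {D A M ι : Type*} [Group D] [CommGroup A] [CommGroup M] [Fintype ι] [DecidableEq ι]
  {L : Loc D A M} {P : Subgroup (Perm ι)} {ev : Prop} {f g : ι → D} {s t : Perm ι}

namespace Mod

variable {H : Type*} [Group H] (m : Mod L P ev H)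

/-- the coset of the torus containing the reflection in the block `i` -/
def Tp (i : ι) (x : H) : Prop := ∃ a ∈ m.bs.range, x = a * m.tt i

variable {m}

theorem Tp.of (h : Ok L P ev f 1) {i : ι} (hi : f i ∉ L.i.range)
    (h' : ∀ l, l ≠ i → f l ∈ L.i.range) : m.Tp i (m.el f 1) := by
  refine ⟨m.el f 1 * (m.tt i)⁻¹, ?_, by simp⟩
  have h1 := h.mul (ok_tt i).inv
  rw [tt, m.el_inv (ok_tt i), m.mul h (ok_tt i).inv]
  rw [inv_one, mul_one] at h1 ⊢
  refine m.mem_range h1 fun l => ?_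
  by_cases hl : l = i
  · subst hl
    simpa using L.idx _ hi _ fun h => L.hj (inv_mem_iff.1 h)
  · simpa [hl] using h' l hl

theorem Tp.self (i : ι) : m.Tp i (m.tt i) := ⟨1, one_mem _, (one_mul _).symm⟩

theorem Tp.mul {i : ι} {x a : H} (h : m.Tp i x) (ha : a ∈ m.bs.range) : m.Tp i (a * x) := by
  obtain ⟨b, hb, rfl⟩ := h
  exact ⟨_, mul_mem ha hb, (mul_assoc _ _ _).symm⟩

theorem Tp.unique {i l : ι} {x : H} (h : m.Tp i x) (h' : m.Tp l x) : i = l := by
  obtain ⟨_, ⟨a, rfl⟩, rfl⟩ := h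
  obtain ⟨_, ⟨b, rfl⟩, h⟩ := h'
  by_contra hl
  rw [bs_def, bs_def, tt, tt, m.mul (ok_base _) (ok_tt _), m.mul (ok_base _) (ok_tt _),
    m.eq_iff ((ok_base _).mul (ok_tt _)) ((ok_base _).mul (ok_tt _))] at h
  obtain ⟨-, c, h, -⟩ := h
  have := h i
  rw [inv_one, Perm.one_apply, Pi.mulSingle_eq_same, Pi.mulSingle_eq_of_ne hl, mul_one,
    ← map_mul] at this
  exact L.mul_not L.hj _ ⟨_, this.symm⟩

theorem Tp.conj (h : Ok L P ev f s) {i : ι} {x : H} (hx : m.Tp i x) :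
    m.Tp (s i) (m.el f s * x * (m.el f s)⁻¹) := by
  obtain ⟨a, ha, rfl⟩ := hx
  rw [← conj_mul]
  refine Tp.mul ?_ (m.normal.conj_mem _ ha _)
  have h1 := (h.mul (ok_tt i)).mul h.inv
  rw [tt, m.el_inv h, m.mul h (ok_tt i), m.mul (h.mul (ok_tt i)) h.inv]
  simp only [mul_one, ai, mul_inv_cancel] at h1 ⊢
  refine Tp.of h1 ?_ fun l hl => ?_
  · rw [ia, Pi.mulSingle_eq_same]
    exact L.conj_not L.hj _
  · rw [Pi.mulSingle_eq_of_ne fun e => hl (by rw [← e, ai])]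
    simp

variable [Nonempty ι] {α : MulAut H}

theorem tp_map (hB : ¬ ev ∨ Nontrivial ι) (hP : normalizer (P : Set (Perm ι)) ≤ P)
    (hP2 : IsPGroup 2 P) (ho : Odd (orderOf α)) (i : ι) : m.Tp i (α (m.tt i)) := by
  have h1 : ∀ i, ∃ l, m.Tp l (α (m.tt i)) := fun i => by
    have hT := (m.th_tt hB i).map (Or.inl hB) α
    obtain ⟨f, s, h, e⟩ := m.surj (α (m.tt i))
    rw [← e] at hT ⊢
    obtain rfl := hT.perm h
    obtain ⟨l, h1, h2⟩ := hT.base h
    exact ⟨l, Tp.of h h1 h2⟩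
  choose ρ hρ using h1
  have h2 : ∀ i x, m.Tp i x → m.Tp (ρ i) (α x) := by
    rintro i _ ⟨a, ha, rfl⟩
    rw [map_mul]
    exact (hρ i).mul (m.map_mem (Or.inl hB) α ha)
  have h3 : ∀ n i, m.Tp (ρ^[n] i) ((α ^ n) (m.tt i)) := fun n i => by
    induction n with
    | zero => exact Tp.self i
    | succ n ih => rw [Function.iterate_succ_apply', pow_succ']; exact h2 _ _ ih
  have h4 : ∀ i, ρ^[orderOf α] i = i := fun i => by
    have := h3 (orderOf α) i
    rw [pow_orderOf_eq_one] at this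
    exact this.unique (Tp.self i)
  have h5 : Function.Injective ρ := fun a b hab => by
    obtain ⟨n, hn⟩ := ho
    rw [← h4 a, ← h4 b, hn, Function.iterate_add_apply, Function.iterate_add_apply,
      Function.iterate_one, hab]
  let r : Perm ι := Equiv.ofBijective ρ (Finite.injective_iff_bijective.1 h5)
  have h6 : r ∈ P := hP (mem_normalizer_fintype fun σ hσ => by
    obtain ⟨f, s, h, e⟩ := m.surj (α (m.el 1 σ))
    have : r * σ = s * r := by
      ext i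
      have a1 := h2 _ _ (Tp.conj (ok_tau hσ) (Tp.self i))
      rw [map_mul, map_mul, map_inv, ← e] at a1
      exact a1.unique (Tp.conj h (hρ i))
    rw [this, mul_inv_cancel_right]
    exact h.1)
  obtain ⟨k, hk⟩ := hP2 ⟨r, h6⟩
  have h7 : r = 1 := eq_one_of_odd (k := k) ho (by
    ext i
    rw [Perm.coe_pow]
    exact h4 i) (congrArg Subtype.val hk)
  have h8 : ρ i = i := congrArg (fun σ : Perm ι => σ i) h7
  have := hρ i
  rwa [h8] at this

omit [Nonempty ι] in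
theorem comm_tp {i : ι} {x a : H} (hx : m.Tp i x) (ha : a ∈ m.bs.range) : ⁅a, x⁆ = ⁅a, m.tt i⁆ := by
  obtain ⟨b, hb, rfl⟩ := hx
  have h1 : ⁅a, m.tt i⁆ ∈ m.bs.range := by
    obtain ⟨a, rfl⟩ := ha
    exact ⟨_, (m.comm_tt i a).symm⟩
  have : ⁅a, b * m.tt i⁆ = b * ⁅a, m.tt i⁆ * b⁻¹ := by
    rw [commutatorElement_def, commutatorElement_def, ← mul_assoc, m.comm ha hb]
    group
  rw [this, m.comm hb h1, mul_inv_cancel_right]

theorem fix_range (hB : ¬ ev ∨ Nontrivial ι) (ho : Odd (orderOf α))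
    (ht : ∀ i, m.Tp i (α (m.tt i))) {a : H} (ha : a ∈ m.bs.range) : α a = a := by
  have h0 : ∀ i, ∀ a ∈ m.bs.range, α ⁅a, m.tt i⁆ = ⁅α a, m.tt i⁆ := fun i a ha => by
    rw [map_commutatorElement, comm_tp (ht i) (m.map_mem (Or.inl hB) α ha)]
  have h1 : ∀ i v (hv : L.N v = 1), α (m.bs (sg i v fun _ => hv)) = m.bs (sg i v fun _ => hv) := by
    intro i v hv
    have h2 : α (m.bs (su L ev i)) = m.bs (su L ev i) := by
      obtain ⟨k, hk⟩ := m.two (m.bs (su L ev i))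
      refine fix_cyc ho hk ?_
      obtain ⟨b, hb⟩ := exists_a (L := L) hB i
      have h3 : m.bs (su L ev i) = ⁅m.bs b, m.tt i⁆ := by
        rw [comm_tt]
        congr 1
        ext1
        rw [su_val, sg_val, hb, L.a_bar]
      obtain ⟨b', hb'⟩ := m.map_mem (Or.inl hB) α ⟨b, rfl⟩
      rw [congrArg α h3, h0 i _ ⟨b, rfl⟩, ← hb', comm_tt]
      exact m.sg_mem i _ _ (L.genU _ (L.N_div_bar _))
    obtain ⟨n, hn⟩ := m.sg_mem i (fun _ => hv) (fun _ => L.N_u) (L.genU v hv)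
    rw [← hn, map_zpow]
    exact congrArg (· ^ n) h2
  obtain ⟨k, hk⟩ := m.two a
  induction k generalizing a with
  | zero => simp at hk; simp [hk]
  | succ k ih =>
  have h2 := ih (pow_mem ha 2) (by rw [← pow_mul, ← pow_succ', hk])
  have ha' := m.map_mem (Or.inl hB) α ha
  obtain ⟨b, hb⟩ := mul_mem ha' (inv_mem ha)
  have h3 : m.bs b ^ 2 = 1 := by
    rw [hb, Commute.mul_pow (m.comm ha' (inv_mem ha)), ← map_pow, h2, inv_pow, mul_inv_cancel]
  have h4 : ∀ i, ∃ c, b.1 i = L.s c := fun i => by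
    have h5 : ⁅α a, m.tt i⁆ = ⁅a, m.tt i⁆ := by
      rw [← h0 i a ha]
      obtain ⟨a, rfl⟩ := ha
      rw [comm_tt, h1 i _ (L.N_div_bar _)]
    have h6 : ⁅m.bs b, m.tt i⁆ = 1 := by
      have h7 : ⁅a, m.tt i⁆ ∈ m.bs.range := by
        obtain ⟨a, rfl⟩ := ha
        exact ⟨_, (m.comm_tt i a).symm⟩
      have : α a = m.bs b * a := by rw [hb, inv_mul_cancel_right]
      rw [this, show ⁅m.bs b * a, m.tt i⁆ = m.bs b * ⁅a, m.tt i⁆ * (m.bs b)⁻¹ * ⁅m.bs b, m.tt i⁆ by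
        simp only [commutatorElement_def]; group, m.comm ⟨b, rfl⟩ h7, mul_inv_cancel_right] at h5
      exact mul_eq_left.1 h5
    rw [comm_tt] at h6
    exact L.fix' (mul_inv_eq_one.1 (m.sg_eq_one hB i _ h6)).symm
  choose c hc using h4
  obtain ⟨d, h5, h6⟩ := m.bs_eq_one.1 ((map_pow m.bs b 2).trans h3)
  have h7 : ∀ l, c l ^ 2 = d := fun l => L.sinj (by
    rw [map_pow, ← hc, ← h5 l]; rfl)
  obtain ⟨c₀, h8, h9⟩ : ∃ c₀, c₀ ^ 2 = d ∧ (ev ∨ c₀ = 1) := by
    rcases h6 with h6 | h6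
    · exact ⟨c (Classical.arbitrary ι), h7 _, Or.inl h6⟩
    · exact ⟨1, by simp [h6], Or.inr rfl⟩
  have h10 : ∀ l, L.N (L.s (c l * c₀⁻¹)) = 1 := fun l => by
    rw [L.N_s, mul_pow, inv_pow, h7, h8, mul_inv_cancel]
  have h11 : m.bs b = m.bs (∏ l, sg l (L.s (c l * c₀⁻¹)) fun _ => h10 l) := by
    refine m.bs_eq_iff.2 ⟨c₀, fun l => ?_, h9⟩
    rw [SubmonoidClass.coe_finsetProd]
    simp only [sg_val]
    rw [Finset.univ_prod_mulSingle (fun l => L.s (c l * c₀⁻¹)), hc, ← map_mul, mul_comm,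
      inv_mul_cancel_right]
  have h12 : α (m.bs b) = m.bs b := by
    rw [h11]
    exact Subgroup.prod_mem ((α.toMonoidHom.comp m.bs).eqLocus m.bs) fun l _ => h1 l _ (h10 l)
  have := fix_of ho (x := a) (k := 1) h12 (by rw [hb, inv_mul_cancel_right]) (by simpa using h3)
  rwa [hb, mul_inv_eq_one] at this

variable (m)

include m in
theorem core (hn : (¬ ev ∨ Nontrivial ι) ∨ L.u ^ 4 ≠ 1) (hP : normalizer (P : Set (Perm ι)) ≤ P)
    (hP2 : IsPGroup 2 P) (ho : Odd (orderOf α)) : α = 1 := by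
  have h1 : ∀ a ∈ m.bs.range, α a = a := by
    by_cases hB : ¬ ev ∨ Nontrivial ι
    · exact fun a ha => fix_range hB ho (tp_map hB hP hP2 ho) ha
    push Not at hB
    obtain ⟨i⟩ := ‹Nonempty ι›
    have := hB.2
    have h2 : ∀ a ∈ m.bs.range, a ∈ zpowers (m.bs (su L ev i)) := by
      rintro _ ⟨b, rfl⟩
      have h3 : L.N (b.1 i) = 1 := by
        rw [← b.2 hB.1, Finset.prod_eq_single i (fun l _ h => (h (Subsingleton.elim _ _)).elim)]
        simp
      have : b = sg i (b.1 i) fun _ => h3 := by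
        ext l
        rw [Subsingleton.elim l i, sg_val, Pi.mulSingle_eq_same]
      rw [this]
      exact m.sg_mem i _ _ (L.genU _ h3)
    intro a ha
    obtain ⟨k, hk⟩ := m.two (m.bs (su L ev i))
    obtain ⟨n, rfl⟩ := h2 a ha
    rw [map_zpow, fix_cyc ho hk (h2 _ (m.map_mem hn α ⟨_, rfl⟩))]
  ext x
  have h2 : α x * x⁻¹ ∈ m.bs.range := m.cent hn fun b => by
    have := h1 _ (m.normal.conj_mem _ ⟨b, rfl⟩ x⁻¹)
    rw [← h1 _ ⟨b, rfl⟩]
    conv_rhs => rw [show m.bs b = x * (x⁻¹ * m.bs b * x⁻¹⁻¹) * x⁻¹ by group, map_mul, map_mul, this,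
      map_inv]
    rw [h1 _ ⟨b, rfl⟩]
    group
  obtain ⟨k, hk⟩ := m.two (α x * x⁻¹)
  exact mul_inv_eq_one.1 (fix_of ho (x := x) (h1 _ h2) (by simp) hk)

end Mod

end H14.LF
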