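import Mathlib
import Cfsg.Agent.Lib.LinF.Loc
import Cfsg.Agent.Lib.Syl2.PronGL2
import Cfsg.Agent.Lib.FGS.TwoOrbits

/-!
# The local data of a Sylow `2`-subgroup of `GL₂(q)`, `q` odd
-/

set_option autoImplicit false

namespace H14.LF

open Subgroup Matrix H61 H82

theorem exists_gens {A M : Type*} [CommGroup A] [CommGroup M] [Finite A] [Finite M] [IsCyclic M]
    (hA : IsPGroup 2 A) (hM : IsPGroup 2 M) (N : A →* M) (s : M →* A)
    (sinj : Function.Injective s) (Ns : ∀ c, N (s c) = c ^ 2) {nu : M} (nu1 : nu ≠ 1)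
    (fix : ∀ r, r ^ 2 = s (N r) → ∃ c, r = s c)
    (uinv : ∀ v, N v = 1 → v ^ 2 = 1 → v = 1 ∨ v = s nu) {y : A} (hy : N y = 1)
    (hy2 : y ^ 2 = s nu) (onto : Function.Surjective N) (hc : Nat.card M ^ 2 ∣ Nat.card A) :
    ∃ (u a : A) (k : ℕ), a ^ 2 = u * s (N a) ∧ (∀ c, c ∈ zpowers (N a)) ∧
      (∀ v, N v = 1 → v ∈ zpowers u) ∧ u ^ 2 ^ (k + 1) = s nu ∧
      (∀ n : ℤ, u ^ n = 1 → N a ^ n = 1) ∧ orderOf u * Nat.card M = Nat.card A := by
  have hn : s nu ≠ 1 := fun h => nu1 (sinj (h.trans (map_one _).symm))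
  have hnu : N (s nu) = 1 := by rw [← hy2, map_pow, hy, one_pow]
  obtain ⟨⟨u, hu⟩, h1⟩ := (H78.TwoOrbits.isCyclic_of_unique_invol (hA.to_subgroup N.ker)
    ⟨s nu, hnu⟩ fun a ha => (uinv a.1 a.2 (by
      rw [pow_two]; exact congrArg Subtype.val ha)).imp Subtype.ext Subtype.ext).exists_generator
  have h2 : ∀ v, N v = 1 → v ∈ zpowers u := fun v hv => by
    obtain ⟨n, hn⟩ := h1 ⟨v, hv⟩
    exact ⟨n, congrArg Subtype.val hn⟩
  have h3 : orderOf u = Nat.card N.ker := by
    rw [← orderOf_eq_card_of_forall_mem_zpowers h1, ← orderOf_coe]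
  have h4 : orderOf u * Nat.card M = Nat.card A := by
    rw [h3, ← N.ker.card_mul_index, index_ker, MonoidHom.range_eq_top.2 onto, card_top]
  obtain ⟨k, hk⟩ := (IsPGroup.iff_orderOf.1 hA) u
  have hu2 : u ^ 2 ≠ 1 := fun h => hn (by
    obtain ⟨n, rfl⟩ := h2 y hy
    rw [← hy2, ← zpow_natCast, ← _root_.zpow_mul, mul_comm, _root_.zpow_mul, zpow_natCast, h,
      _root_.one_zpow])
  obtain ⟨k, rfl⟩ : ∃ l, k = l + 2 := by
    refine ⟨k - 2, ?_⟩
    by_contra h
    refine hu2 (orderOf_dvd_iff_pow_eq_one.1 ?_)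
    rw [hk]
    exact pow_dvd_pow 2 (show k ≤ 1 by omega)
  have h5 : u ^ 2 ^ (k + 1) = s nu := (uinv _ (by rw [map_pow, show N u = 1 from hu, one_pow])
    (by rw [← pow_mul, ← pow_succ, ← hk, pow_orderOf_eq_one])).resolve_left
      (pow_ne_one_of_lt_orderOf (by positivity) (hk ▸ Nat.pow_lt_pow_right one_lt_two (by omega)))
  let φ : A →* A := powMonoidHom 2 * (invMonoidHom.comp (s.comp N))
  have hφ : ∀ r, φ r = r ^ 2 * (s (N r))⁻¹ := fun r => rfl
  have h6 : φ.ker = s.range := by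
    ext r
    rw [MonoidHom.mem_ker, hφ, mul_inv_eq_one]
    refine ⟨fun h => (fix r h).imp fun c hc => hc.symm, ?_⟩
    rintro ⟨c, rfl⟩
    rw [Ns, map_pow]
  have h7 : φ.range = N.ker := by
    refine eq_of_le_of_card_ge ?_ (le_of_eq ?_)
    · rintro _ ⟨r, rfl⟩
      rw [MonoidHom.mem_ker, hφ, map_mul, map_inv, Ns, map_pow, mul_inv_cancel]
    · have := φ.ker.card_mul_index
      rw [index_ker, h6, ← h4, h3, Nat.card_congr (MonoidHom.ofInjective sinj).symm.toEquiv,
        mul_comm] at this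
      exact (Nat.eq_of_mul_eq_mul_right Nat.card_pos this).symm
  obtain ⟨a, ha⟩ : u ∈ φ.range := h7 ▸ hu
  rw [hφ, mul_inv_eq_iff_eq_mul] at ha
  obtain ⟨g, hg⟩ := IsCyclic.exists_generator (α := M)
  obtain ⟨n, hn'⟩ := mem_powers_iff_mem_zpowers.2 (hg (N a))
  simp only at hn'
  have h8 : Odd n := by
    by_contra h
    obtain ⟨t, rfl⟩ := Nat.not_odd_iff_even.1 h
    obtain ⟨z, hz⟩ := h2 (a * (s (g ^ t))⁻¹) (by
      rw [map_mul, map_inv, Ns, ← hn', pow_two, pow_add, mul_inv_cancel])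
    simp only at hz
    have h9 : u ^ (2 * z - 1) = 1 := by
      rw [_root_.zpow_sub_one, mul_comm 2, _root_.zpow_mul, hz, zpow_ofNat, mul_pow, ha, ← hn', inv_pow,
        ← map_pow, pow_two, pow_add, mul_inv_cancel_right, mul_inv_cancel]
    exact hu2 (by rw [eq_one_of_odd_int (k := k + 2) ⟨z - 1, by ring⟩ h9
      (by rw [← hk, pow_orderOf_eq_one]), one_pow])
  refine ⟨u, a, k, ha, fun c => zpowers_le.2 ?_ (hg c), h2, h5, fun n h => ?_, h4⟩
  · obtain ⟨l, hl⟩ := (IsPGroup.iff_orderOf.1 hM) g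
    rw [← hn', mem_zpowers_pow_iff, hl]
    exact (Nat.coprime_two_right.2 h8).pow_right l
  · rw [← orderOf_dvd_iff_zpow_eq_one] at h ⊢
    refine (Int.natCast_dvd_natCast.2 ((_root_.orderOf_dvd_natCard _).trans ?_)).trans h
    rw [← h4, pow_two] at hc
    exact Nat.dvd_of_mul_dvd_mul_right Nat.card_pos hc

universe v

variable {F : Type v} [Field F]

theorem O4.trace {y : GL (Fin 2) F} (hy : O4 y) : y.val 0 0 + y.val 1 1 = 0 := by
  have h1 := hy.det
  have h2 := hy.sq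
  have a := congrFun (congrFun h2 0) 0
  have b := congrFun (congrFun h2 0) 1
  have c := congrFun (congrFun h2 1) 0
  have d := congrFun (congrFun h2 1) 1
  simp [Matrix.mul_apply, det_fin_two] at h1 a b c d
  by_contra h
  have b' : y.val 0 1 = 0 := (mul_eq_zero.1 (show (y.val 0 0 + y.val 1 1) * y.val 0 1 = 0 by
    linear_combination b)).resolve_left h
  rw [b'] at h1 a d
  exact h ((mul_self_eq_zero (a := y.val 0 0 + y.val 1 1)).1 (by linear_combination a + d + 2 * h1))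

theorem cj_anti (h2 : (2 : F) ≠ 0) {y r d : GL (Fin 2) F} (hy : O4 y) (hr : r * y = y * r)
    (hd : d * y = -(y * d)) :
    d * r * d⁻¹ = GeneralLinearGroup.scalar (Fin 2) (GeneralLinearGroup.det r) * r⁻¹ := by
  obtain ⟨α, β, e⟩ := hy.exists_of_comm h2 hr
  rw [eq_mul_inv_iff_mul_eq]
  have h3 : (d * y * d⁻¹).val = -y.val := by rw [hd]; simp
  have h4 : (d * r * d⁻¹).val = α • (1 : Matrix (Fin 2) (Fin 2) F) - β • y.val := by
    simp only [Units.val_mul] at h3 ⊢
    rw [e, mul_add, add_mul, mul_smul_comm, smul_mul_assoc, mul_smul_comm, smul_mul_assoc, h3]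
    simp [sub_eq_add_neg]
  have h5 := O4.trace hy
  have h6 := hy.det
  rw [det_fin_two] at h6
  apply Units.ext
  rw [Units.val_mul, h4]
  ext i j
  fin_cases i <;> fin_cases j <;> simp [e, Matrix.mul_apply, det_fin_two]
  · linear_combination (-α * β - β ^ 2 * y.val 0 0) * h5
  · linear_combination (-β ^ 2 * y.val 0 1) * h5
  · linear_combination (-β ^ 2 * y.val 1 0) * h5
  · linear_combination (-α * β - β ^ 2 * y.val 1 1) * h5

theorem sq_anti (h2 : (2 : F) ≠ 0) {y d : GL (Fin 2) F} (hd : d * y = -(y * d)) :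
    d ^ 2 = GeneralLinearGroup.scalar (Fin 2) (-1 * GeneralLinearGroup.det d) := by
  have h3 : d.val 0 0 + d.val 1 1 = 0 := by
    have h4 : y⁻¹ * (d * y) = -d := by rw [hd]; simp
    have h5 := congrArg (fun g : GL (Fin 2) F => g.val.trace) h4
    simp only [Units.val_mul, Units.val_neg] at h5
    rw [trace_mul_comm, mul_assoc, Units.mul_inv, mul_one, trace_neg, trace_fin_two] at h5
    exact (mul_eq_zero.1 (show 2 * (d.val 0 0 + d.val 1 1) = 0 by
      linear_combination h5)).resolve_left h2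
  apply Units.ext
  ext i j
  fin_cases i <;> fin_cases j <;> simp [pow_two, Matrix.mul_apply, det_fin_two]
  · linear_combination d.val 0 0 * h3
  · linear_combination d.val 0 1 * h3
  · linear_combination d.val 1 0 * h3
  · linear_combination d.val 1 1 * h3

theorem scalar_central {J : Type*} [Fintype J] [DecidableEq J] (c : Fˣ) :
    GeneralLinearGroup.scalar J c ∈ center (GL J F) :=
  mem_center_iff.2 fun g => Units.ext ((Matrix.scalar_commute (c : F) (fun _ => Commute.all _ _)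
    g.val).eq.symm)

theorem mem_syl [Finite F] {M : Subgroup Fˣ} (hM : SylIn 2 M ⊤) {c : Fˣ} {k : ℕ}
    (h : c ^ 2 ^ k = 1) : c ∈ M :=
  mem_of_central hM (mem_center_iff.2 fun g => mul_comm _ _) h

theorem exists_loc [Finite F] (hq : Odd (Nat.card F)) {D : Subgroup (GL (Fin 2) F)}
    (hD : SylIn 2 D ⊤) {M : Subgroup Fˣ} (hM : SylIn 2 M ⊤) :
    ∃ (R : Type v) (_ : CommGroup R) (L : Loc D R M),
      (∀ d, (L.det d : Fˣ) = GeneralLinearGroup.det d.1) ∧
      (∀ c, (L.i (L.s c)).1 = GeneralLinearGroup.scalar (Fin 2) c.1) ∧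
      (Nat.card F % 8 = 1 ∨ Nat.card F % 8 = 7 → L.u ^ 4 ≠ 1) := by
  have h2 := H10.two_ne_zero_of_odd_card hq
  obtain ⟨a, ha, b, hb, ha', hb', hab⟩ := (good2_GL hq hD).q8
  obtain ⟨y, hy, hy', h1⟩ := exists_O4 h2 hD.pgrp ha ha'
  let R : Subgroup D := centralizer {⟨y, hy⟩}
  have hR : ∀ d : D, d ∈ R ↔ d.1 * y = y * d.1 := fun d => by
    rw [mem_centralizer_singleton_iff, Subtype.ext_iff]; rfl
  have hR' : ∀ d : D, d ∉ R → d.1 * y = -(y * d.1) := fun d hd =>
    (h1 d.1 d.2).resolve_left fun h => hd ((hR d).2 h)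
  letI cR : CommGroup R := { (inferInstance : Group R) with
    mul_comm := fun r t => Subtype.ext (Subtype.ext (hy'.comm h2 ((hR _).1 r.2) ((hR _).1 t.2))) }
  have p2 : ∀ d : D, ∃ k, d.1 ^ 2 ^ k = 1 := fun d => (hD.pgrp d).imp fun k hk =>
    congrArg Subtype.val hk
  let det : D →* M := (GeneralLinearGroup.det.comp D.subtype).codRestrict M fun d => by
    obtain ⟨k, hk⟩ := p2 d
    exact mem_syl hM (k := k) (by simp [← map_pow, hk])
  let s : M →* R := (((GeneralLinearGroup.scalar (Fin 2)).comp M.subtype).codRestrict D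
    fun c => by
      obtain ⟨k, hk⟩ := hM.pgrp c
      exact mem_of_central hD (scalar_central _) (k := k) (by
        rw [← map_pow, hk, map_one])).codRestrict R fun c =>
          (hR _).2 (mem_center_iff.1 (scalar_central c.1) y).symm
  have hs : ∀ c, (s c).1.1 = GeneralLinearGroup.scalar (Fin 2) c.1 := fun c => rfl
  have hdet : ∀ d, (det d).1 = GeneralLinearGroup.det d.1 := fun d => rfl
  have sinj : Function.Injective s := fun c c' h => by
    have := congrArg (fun r : R => r.1.1.val 0 0) h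
    exact Subtype.ext (Units.ext (by simpa [hs] using this))
  have hrange : R.subtype.range = R := range_subtype R
  let nu : M := ⟨-1, mem_syl hM (k := 1) (by simp)⟩
  have hnu : (s nu).1.1 = -1 := Units.ext (by
    rw [hs]; ext i j; fin_cases i <;> fin_cases j <;> simp [nu])
  have nu1 : nu ≠ 1 := fun h => gl2_ne_neg h2 1 (by rw [← hnu, h, map_one]; rfl)
  obtain ⟨j, hj, dj⟩ : ∃ j : D, j ∉ R ∧ det j = 1 := by
    by_contra h
    push Not at h
    have e1 : (⟨a, ha⟩ : D) ∈ R := by_contra fun e => h _ e (Subtype.ext ha'.1)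
    have e2 : (⟨b, hb⟩ : D) ∈ R := by_contra fun e => h _ e (Subtype.ext hb'.1)
    exact gl2_ne_neg h2 _ ((hy'.comm h2 ((hR _).1 e1) ((hR _).1 e2)).symm.trans hab)
  have idx : ∀ x, x ∉ R → ∀ z, z ∉ R → x * z ∈ R := fun x hx z hz => (hR _).2 (by
    rw [coe_mul, mul_assoc, hR' z hz, mul_neg, ← mul_assoc, hR' x hx]; simp [mul_assoc])
  have Ns : ∀ c, det (s c) = c ^ 2 := fun c => Subtype.ext (Units.ext (by simp [hdet, hs]))
  have cj : ∀ d, d ∉ R → ∀ r : R, d * r * d⁻¹ = (s (det r) * r⁻¹ : R) := fun d hd r =>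
    Subtype.ext (cj_anti h2 hy' ((hR _).1 r.2) (hR' d hd))
  have fix : ∀ r : R, r ^ 2 = s (det r) → ∃ c, r = s c := fun r hr => by
    have h3 := cj j hj r
    rw [← hr, pow_two, mul_inv_cancel_right, mul_inv_eq_iff_eq_mul] at h3
    obtain ⟨c, hc⟩ := hy'.scalar h2 ((hR _).1 r.2) (hR' j hj) (congrArg Subtype.val h3).symm
    obtain ⟨k, hk⟩ := p2 r
    refine ⟨⟨c, mem_syl hM (k := k) (Units.ext ?_)⟩, Subtype.ext (Subtype.ext hc)⟩
    rw [hc, ← map_pow] at hk
    simpa [diagonal_pow] using congrArg (fun g : GL (Fin 2) F => g.val 0 0) hk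
  have onto : Function.Surjective (det.comp R.subtype) := fun c => by
    obtain ⟨k, hk⟩ := hM.pgrp c
    obtain ⟨g, -, hg⟩ := hD.exists_conj_mem (x := dg1 c.1) (k := k) trivial (by
      rw [← map_pow, show c.1 ^ 2 ^ k = 1 from congrArg Subtype.val hk, map_one])
    have h3 : det ⟨_, hg⟩ = c := Subtype.ext (by simp [hdet, det_dg1])
    by_cases h : (⟨_, hg⟩ : D) ∈ R
    · exact ⟨⟨_, h⟩, h3⟩
    · exact ⟨⟨_, idx _ h _ hj⟩, by
        rw [MonoidHom.comp_apply, coe_subtype, map_mul, h3, dj, mul_one]⟩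
  have c1 : Nat.card M = 2 ^ padicValNat 2 (Nat.card F - 1) := by
    rw [sylIn_top_card hM, Nat.card_units]
  have c2 : Nat.card R * 2 = 2 ^ (padicValNat 2 (Nat.card F ^ 2 - 1)) * Nat.card M := by
    have : R.index = 2 := index_eq_two_iff.2 ⟨j, fun x => by
      by_cases hx : x ∈ R
      · exact Or.inr ⟨hx, fun h => hj ((mul_mem_cancel_left hx).1 h)⟩
      · exact Or.inl ⟨idx _ hx _ hj, hx⟩⟩
    have h3 := R.card_mul_index
    rw [this] at h3
    rw [h3, sylIn_top_card hD, v2_card_GL hq, c1, ← pow_add]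
    simp
  have h1q : 1 < Nat.card F := Finite.one_lt_card
  have c3 : ∀ t, 2 ^ t ∣ Nat.card F ^ 2 - 1 → 2 ^ t * Nat.card M ∣ Nat.card R * 2 := fun t ht => by
    rw [c2]
    exact mul_dvd_mul_right (pow_dvd_pow 2 ((padicValNat_dvd_iff_le
      (pow_sub_one_ne_zero h1q two_ne_zero)).1 ht)) _
  have c4 : Nat.card F ^ 2 - 1 = (Nat.card F - 1) * (Nat.card F + 1) := by
    rw [mul_comm]; simpa using Nat.sq_sub_sq (Nat.card F) 1
  obtain ⟨u, a, k, e1, e2, e3, e4, e5, e6⟩ := exists_gens (hD.pgrp.to_subgroup R) hM.pgrp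
    (det.comp R.subtype) s sinj Ns nu1 fix (fun v hv hv2 =>
      (GL2_eq_of_sq h2 (g := v.1.1) (congrArg Subtype.val hv)
        (congrArg (fun r : R => r.1.1) hv2)).imp (fun h => Subtype.ext (Subtype.ext h))
        fun h => Subtype.ext (Subtype.ext (h.trans hnu.symm)))
    (y := ⟨⟨y, hy⟩, (hR _).2 rfl⟩) (Subtype.ext hy'.1)
    (Subtype.ext (Subtype.ext (hy'.2.trans hnu.symm))) onto (by
      have := c3 (padicValNat 2 (Nat.card F - 1) + 1) (by
        rw [c4, pow_succ]
        exact mul_dvd_mul pow_padicValNat_dvd hq.add_one.two_dvd)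
      rw [pow_succ, ← c1, mul_right_comm, ← pow_two] at this
      exact Nat.dvd_of_mul_dvd_mul_right two_pos this)
  refine ⟨R, cR, ⟨R.subtype, s, det, nu, u, a, j, k, subtype_injective R, sinj,
    by simpa only [hrange] using idx, Ns, fun d hd => cj d (hrange ▸ hd), fun d hd => ?_, fix,
    by simpa only [hrange] using hj, dj, e1, e2, e3, e4, nu1, e5, fun c hc => ?_⟩, hdet, hs,
    fun h8 h4 => ?_⟩
  · exact Subtype.ext (sq_anti h2 (hR' d (by simpa only [hrange] using hd)))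
  · have : (c.1 : F) ^ 2 = 1 := congrArg (fun c : M => (c.1 : F)) hc
    exact (sq_eq_one_iff.1 this).imp (fun h => Subtype.ext (Units.ext h))
      fun h => Subtype.ext (Units.ext h)
  · have h5 := c3 4 (by
      rw [c4]
      rcases h8 with h8 | h8
      · exact mul_dvd_mul (show 8 ∣ _ by omega) (show 2 ∣ _ by omega)
      · rw [mul_comm]; exact mul_dvd_mul (show 8 ∣ _ by omega) (show 2 ∣ _ by omega))
    rw [← e6, mul_right_comm] at h5
    have h6 := Nat.le_of_dvd (by have := orderOf_pos u; omega)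
      (Nat.dvd_of_mul_dvd_mul_right Nat.card_pos h5)
    have h7 := Nat.le_of_dvd (by norm_num) (orderOf_dvd_of_pow_eq_one h4)
    simp only at h7
    omega

end H14.LF
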