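import Mathlib
import Cfsg.Agent.Lib.LinF.Core
import Cfsg.Agent.Lib.LinF.GL2
import Cfsg.Agent.Lib.SymSylow.Two

/-!
# A Sylow `2`-subgroup of `PSL_n(q)`, `q` odd, has no automorphism of odd order
-/

set_option autoImplicit false

namespace H14.LF

open Subgroup Matrix H61 H82
open Equiv (Perm)

variable {F : Type*} [Field F] {ι κ J : Type*} [Fintype ι] [Fintype κ] [Fintype J]
  [DecidableEq ι] [DecidableEq κ] [DecidableEq J]

/-- the projection onto the projective special linear group -/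
def toPSL (J F : Type*) [Fintype J] [DecidableEq J] [Field F] :
    slK J F →* ProjectiveSpecialLinearGroup J F :=
  (QuotientGroup.mk' _).comp
    ({ toFun := fun g => ⟨g.1.val, congrArg Units.val g.2⟩
       map_one' := rfl
       map_mul' := fun _ _ => rfl } : slK J F →* SpecialLinearGroup J F)

theorem toPSL_surj : Function.Surjective (toPSL J F) := fun x => by
  obtain ⟨g, rfl⟩ := QuotientGroup.mk'_surjective _ x
  exact ⟨⟨SpecialLinearGroup.toGL g, SpecialLinearGroup.coeToGL_det g⟩, rfl⟩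

theorem toPSL_eq_one [Nonempty J] {g : slK J F} :
    toPSL J F g = 1 ↔ ∃ c : Fˣ, g.1 = GeneralLinearGroup.scalar J c := by
  refine (QuotientGroup.eq_one_iff _).trans (Matrix.SpecialLinearGroup.mem_center_iff.trans ?_)
  constructor
  · rintro ⟨r, h1, h2⟩
    have : r ≠ 0 := fun h => by simp [h] at h1
    exact ⟨Units.mk0 r this, Units.ext h2.symm⟩
  · rintro ⟨c, hc⟩
    refine ⟨c, ?_, (congrArg Units.val hc).symm⟩
    have := congrArg Units.val (MonoidHom.mem_ker.1 g.2)
    rw [hc] at this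
    simpa using this

theorem gl_eq_scalar (hκ : Fintype.card κ ≤ 1) (c : GL κ F) :
    c = GeneralLinearGroup.scalar κ (GeneralLinearGroup.det c) := by
  have := Fintype.card_le_one_iff_subsingleton.1 hκ
  ext i j
  obtain rfl := Subsingleton.elim i j
  simp [det_eq_elem_of_subsingleton _ i]

theorem Phi_scalar (e : Fin 2 × ι ⊕ κ ≃ J) (c : Fˣ) :
    (glWr F e).Φ (fun _ => GeneralLinearGroup.scalar _ c, GeneralLinearGroup.scalar _ c) =
      GeneralLinearGroup.scalar J c := by
  refine gl_ext fun v => funext fun x => ?_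
  rw [glWr_Phi_val]
  obtain ⟨(⟨a, b⟩ | a), rfl⟩ := e.surjective x
  · rw [blk_mulVec_inl]; simp [mulVec_diagonal]
  · rw [blk_mulVec_inr]; simp [mulVec_diagonal]

/-- block monomial matrices with the determinant compensated in the last block -/
def gm (e : Fin 2 × ι ⊕ κ ≃ J) (f : ι → GL (Fin 2) F) (s : Perm ι) : GL J F :=
  (glWr F e).Φ (f, GeneralLinearGroup.scalar κ (∏ l, GeneralLinearGroup.det (f l))⁻¹) *
    (glWr F e).τ s

theorem gm_mul (e : Fin 2 × ι ⊕ κ ≃ J) (f g : ι → GL (Fin 2) F) (s t : Perm ι) :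
    gm e f s * gm e g t = gm e (fun l => f l * g (s⁻¹ l)) (s * t) := by
  rw [gm, gm, gm, mul_assoc, ← mul_assoc ((glWr F e).τ s), (glWr F e).conj, map_mul (glWr F e).τ,
    ← mul_assoc, ← mul_assoc, ← mul_assoc, ← map_mul, Prod.mk_mul_mk, ← map_mul]
  congr 5
  simp only [map_mul, Finset.prod_mul_distrib, mul_inv]
  rw [Equiv.prod_comp s⁻¹ fun l => GeneralLinearGroup.det (g l)]

theorem gm_det (e : Fin 2 × ι ⊕ κ ≃ J) (hκ : Fintype.card κ ≤ 1) {f : ι → GL (Fin 2) F}
    (h : IsEmpty κ → ∏ l, GeneralLinearGroup.det (f l) = 1) (s : Perm ι) : gm e f s ∈ slK J F := by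
  rw [MonoidHom.mem_ker, gm, map_mul, det_glWr_tau e (by simp), det_glWr_Phi, mul_one]
  rcases isEmpty_or_nonempty κ with h' | h'
  · rw [h h']; simp
  · apply Units.ext
    simp [show Fintype.card κ = 1 from le_antisymm hκ Fintype.card_pos]

theorem aut_odd_of_equiv [Finite F] [Nonempty ι] (hq : Odd (Nat.card F)) (e : Fin 2 × ι ⊕ κ ≃ J)
    (hκ : Fintype.card κ ≤ 1)
    (h8 : (¬ IsEmpty κ ∨ Nontrivial ι) ∨ Nat.card F % 8 = 1 ∨ Nat.card F % 8 = 7)
    (T : Sylow 2 (ProjectiveSpecialLinearGroup J F))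
    (α : MulAut (T : Subgroup (ProjectiveSpecialLinearGroup J F))) (ho : Odd (orderOf α)) :
    α = 1 := by
  obtain ⟨D, hD⟩ := SylIn.exists_sylIn (p := 2) (⊤ : Subgroup (GL (Fin 2) F))
  obtain ⟨C, hC⟩ := SylIn.exists_sylIn (p := 2) (⊤ : Subgroup (GL κ F))
  obtain ⟨P, hP⟩ := SylIn.exists_sylIn (p := 2) (⊤ : Subgroup (Perm ι))
  obtain ⟨M, hM⟩ := SylIn.exists_sylIn (p := 2) (⊤ : Subgroup Fˣ)
  obtain ⟨R, cR, L, h1, h2, h3⟩ := exists_loc hq hD hM
  have : Nonempty J := ⟨e (.inl (0, Classical.arbitrary ι))⟩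
  have hW := sylIn_inf_normal (sylIn_glWr hq e hκ hD hC hP) (slK J F)
  let T₀ := hW.toSylow.mapSurjective toPSL_surj
  have hT : ∀ x, x ∈ (T₀ : Subgroup (ProjectiveSpecialLinearGroup J F)) ↔
      ∃ g : slK J F, g.1 ∈ (glWr F e).sub D C P ∧ toPSL J F g = x := fun x => by
    rw [Sylow.coe_mapSurjective, SylIn.coe_toSylow, inf_subgroupOf_right]
    rfl
  have hd : ∀ f : ι → D, ∏ l, GeneralLinearGroup.det (f l).1 = (∏ l, L.det (f l) : M) := fun f => by
    simp [h1]
  have k1 : ∀ {f s}, Ok L P (IsEmpty κ) f s → gm e (fun l => (f l).1) s ∈ slK J F := fun h =>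
    gm_det e hκ (fun h' => by rw [hd, h.2 h']; rfl) _
  have k2 : ∀ {f s}, Ok L P (IsEmpty κ) f s → gm e (fun l => (f l).1) s ∈ (glWr F e).sub D C P :=
    fun {f s} h => by
      refine mul_mem (Wr.Phi_mem _ (fun l => (f l).2) ?_) (Wr.tau_mem _ h.1)
      obtain ⟨k, hk⟩ := hM.pgrp (∏ l, L.det (f l))⁻¹
      refine mem_of_central hC (scalar_central _) (k := k) ?_
      rw [← map_pow, hd, ← coe_inv, ← coe_pow, hk, coe_one, map_one]
  classical
  let el : (ι → D) → Perm ι → (T₀ : Subgroup (ProjectiveSpecialLinearGroup J F)) := fun f s =>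
    if h : Ok L P (IsEmpty κ) f s then ⟨toPSL J F ⟨_, k1 h⟩, (hT _).2 ⟨_, k2 h, rfl⟩⟩ else 1
  have hel : ∀ {f s} (h : Ok L P (IsEmpty κ) f s), (el f s).1 = toPSL J F ⟨_, k1 h⟩ := fun h => by
    simp only [el, dif_pos h]
  let m : Mod L P (IsEmpty κ) (T₀ : Subgroup (ProjectiveSpecialLinearGroup J F)) :=
    { el := el
      mul := fun h h' => Subtype.ext (by
        rw [coe_mul, hel h, hel h', hel (h.mul h'), ← map_mul]
        exact congrArg _ (Subtype.ext (gm_mul e _ _ _ _)))
      surj := fun x => by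
        obtain ⟨g, hg, hx⟩ := (hT _).1 x.2
        obtain ⟨f, c, s, a1, -, a3, a4⟩ := (glWr F e).mem_sub.1 hg
        have a5 := MonoidHom.mem_ker.1 g.2
        rw [← a4, map_mul, det_glWr_tau e (by simp), det_glWr_Phi, mul_one] at a5
        have a6 : Ok L P (IsEmpty κ) (fun l => ⟨f l, a1 l⟩) s := ⟨a3, fun h => Subtype.ext (by
          rw [← hd, coe_one, ← a5, Subsingleton.elim c 1, map_one, mul_one])⟩
        refine ⟨_, s, a6, Subtype.ext ?_⟩
        rw [hel a6, ← hx]
        refine congrArg _ (Subtype.ext ?_)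
        rw [← a4, gl_eq_scalar hκ c, eq_inv_of_mul_eq_one_right a5]
        rfl
      one_iff := fun {f s} h => by
        rw [Subtype.ext_iff, hel h, coe_one, toPSL_eq_one]
        simp only [← Phi_scalar e]
        constructor
        · rintro ⟨c, hc⟩
          rw [← mul_one ((glWr F e).Φ _), ← map_one (glWr F e).τ, gm, Wr.eq_iff, Prod.mk.injEq,
            funext_iff] at hc
          obtain ⟨⟨a1, a2⟩, a3⟩ := hc
          obtain ⟨k, hk⟩ := hD.pgrp (f (Classical.arbitrary ι))
          have a4 : c ^ 2 ^ k = 1 := Units.ext (by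
            have := congrArg Subtype.val hk
            rw [coe_pow, a1, ← map_pow] at this
            simpa [diagonal_pow] using congrArg (fun g : GL (Fin 2) F => g.val 0 0) this)
          refine ⟨a3, ⟨c, mem_syl hM a4⟩, fun l => Subtype.ext ((a1 l).trans (h2 ⟨c, _⟩).symm), ?_⟩
          rcases isEmpty_or_nonempty κ with h' | ⟨⟨j⟩⟩
          · exact Or.inl h'
          refine Or.inr (Subtype.ext (eq_one_of_odd (n := 2 * Fintype.card ι + 1) ⟨_, rfl⟩ ?_ a4))
          have a5 : (∏ l, GeneralLinearGroup.det (f l).1)⁻¹ = c := by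
            generalize (∏ l, GeneralLinearGroup.det (f l).1)⁻¹ = z at a2
            exact Units.ext (by simpa using congrArg (fun g : GL κ F => g.val j j) a2)
          have a6 : GeneralLinearGroup.det (GeneralLinearGroup.scalar (Fin 2) c) = c ^ 2 :=
            Units.ext (by simp)
          simp only [a1, a6, Finset.prod_const, Finset.card_univ, inv_eq_iff_mul_eq_one] at a5
          rw [pow_succ, pow_mul]
          exact a5
        · rintro ⟨rfl, c, a1, a2⟩
          refine ⟨c, ?_⟩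
          simp only [gm, map_one, mul_one, a1, h2]
          rcases a2 with a2 | rfl
          · exact congrArg (fun z => (glWr F e).Φ (_, z)) (Subsingleton.elim _ _)
          · simp
      two := T₀.isPGroup' }
  let φ := T.equiv T₀
  have := m.core (α := MulAut.congr φ α) (h8.imp id h3) hP.normalizer_le_of_top hP.pgrp
    (by rwa [MulEquiv.orderOf_eq])
  exact (map_eq_one_iff _ (MulAut.congr φ).injective).1 this

theorem aut_odd_PSL [Finite F] (hq : Odd (Nat.card F)) {n : ℕ} (hn : 2 ≤ n)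
    (h8 : n = 2 → Nat.card F % 8 = 1 ∨ Nat.card F % 8 = 7)
    (T : Sylow 2 (ProjectiveSpecialLinearGroup (Fin n) F))
    (α : MulAut (T : Subgroup (ProjectiveSpecialLinearGroup (Fin n) F))) (ho : Odd (orderOf α)) :
    α = 1 := by
  have : Nonempty (Fin (n / 2)) := ⟨⟨0, by omega⟩⟩
  refine aut_odd_of_equiv (ι := Fin (n / 2)) (κ := Fin (n % 2)) hq
    (Fintype.equivOfCardEq (by simp; omega)) (by simp; omega) ?_ T α ho
  by_cases h : n = 2
  · exact Or.inr (h8 h)
  by_cases h' : n = 3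
  · exact Or.inl (Or.inl (by subst h'; simp))
  · exact Or.inl (Or.inr (Fin.nontrivial_iff_two_le.2 (by omega)))

end H14.LF
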