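import Mathlib
import Cfsg.Agent.Base
import Cfsg.Agent.S5093
import Cfsg.Agent.S5097
import Cfsg.Agent.S5114
import Cfsg.Agent.S5198
import Cfsg.Agent.S5201
import Cfsg.Agent.S5293
import Cfsg.Agent.Lib.Transfer.Control

/-!
# Normal subsystems with trivial centraliser over a group whose automorphism group is a `p`-group
-/

set_option autoImplicit false

namespace H14.LF

open Subgroup Cfsg Cfsg.FusionSystem

theorem pgroup_of_coprime {A : Type*} [Group A] [Finite A] {p : ℕ} [hp : Fact p.Prime]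
    (h : ∀ a : A, (orderOf a).Coprime p → a = 1) : IsPGroup p A := fun a => by
  obtain ⟨k, m, hm, e⟩ := Nat.exists_eq_pow_mul_and_not_dvd (orderOf_pos a).ne' p hp.out.ne_one
  refine ⟨k, h _ (Nat.Coprime.coprime_dvd_left (orderOf_dvd_of_pow_eq_one ?_)
    ((Nat.Prime.coprime_iff_not_dvd hp.out).2 hm).symm)⟩
  rw [← pow_mul, ← e, pow_orderOf_eq_one]

variable {Ω : Type*} [Group Ω] {S T : Subgroup Ω} [Finite S] {p : ℕ} [Fact p.Prime]
  {F : FusionSystem S} {E : FusionSystem T}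

theorem sub_of_aut (hS : IsPGroup p S) (hE : E.IsNormalIn F p) (hh : F.hyperfocalSubgroup p = S)
    (hA : ∀ α : MulAut T, (orderOf α).Coprime p → α = 1)
    (hC : ∀ Y : Subgroup Ω, Y ≤ centralizerIn S T → (∀ P, E.Hom P ⊆ F.centralizerHom Y P) →
      Y = ⊥) : F.IsSubsystemOf E := by
  have hF : F.IsSaturated p := hE.1.2.1
  have hT : F.StronglyClosed T := hE.1.2.2.2.1
  have : Finite T := Finite.of_injective _ (inclusion_injective hT.1)
  have h1 : ∀ x ∈ S, ∃ t ∈ T, t⁻¹ * x ∈ centralizerIn S T := fun x hx => by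
    obtain ⟨α, hα, h⟩ := Cfsg.Agent.S5198.result p hS F hF T hT x (hh.symm ▸ hx)
    have h0 : pResidual p (F.autGroup T) = ⊥ := closure_eq_bot_iff.2 fun a ha =>
      Subtype.ext (hA a.1 (by rw [orderOf_coe]; exact ha))
    rw [h0, Subgroup.map_bot, bot_sup_eq] at hα
    obtain ⟨t, rfl⟩ := hα
    refine ⟨t, t.2, S.mul_mem (S.inv_mem (hT.1 t.2)) hx, fun y hy => ?_⟩
    have : (t : Ω) * y * (t : Ω)⁻¹ = x * y * x⁻¹ := h ⟨y, hy⟩
    calc y * ((t : Ω)⁻¹ * x) = (t : Ω)⁻¹ * (t * y * (t : Ω)⁻¹) * x := by group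
      _ = (t : Ω)⁻¹ * x * y := by rw [this]; group
  have h2 : IsPGroup p (F.autGroup S) := pgroup_of_coprime fun α hα => by
    have hm := (H93.mem_autGroup F le_rfl).1 α.2
    have a1 : ∀ t : T, (α.1 ⟨t, hT.1 t.2⟩ : Ω) ∈ T := fun t =>
      hT.2 T le_rfl _ (H93.restrict_mem F hT.1 hm) t
    let r : T →* T := ((S.subtype.comp α.1.toMonoidHom).comp (inclusion hT.1)).codRestrict T a1
    have hr : Function.Injective r := fun a b h => inclusion_injective hT.1
      (α.1.injective (Subtype.ext (congrArg (fun t : T => (t : Ω)) h)))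
    let β : MulAut T := MulEquiv.ofBijective r (Finite.injective_iff_bijective.1 hr)
    have a2 : ∀ (n : ℕ) (t : T), ((β ^ n) t : Ω) = (α.1 ^ n) ⟨t, hT.1 t.2⟩ := fun n => by
      induction n with
      | zero => exact fun t => rfl
      | succ n ih => exact fun t => by rw [pow_succ, pow_succ, MulAut.mul_apply, ih]; rfl
    have a3 : β = 1 := hA β (Nat.Coprime.coprime_dvd_left (orderOf_dvd_of_pow_eq_one (by
      ext t
      rw [a2, ← coe_pow, pow_orderOf_eq_one]
      rfl)) hα)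
    have a4 : ∀ t (ht : t ∈ T), α.1 ⟨t, hT.1 ht⟩ = ⟨t, hT.1 ht⟩ := fun t ht =>
      Subtype.ext (congrArg (fun β : MulAut T => (β ⟨t, ht⟩ : Ω)) a3)
    obtain ⟨D, hD⟩ := Cfsg.Agent.S5097.result F T hT.1
    have a5 := Cfsg.Agent.S5293.result p hS F hF E hE _ rfl D hD
    have hle : centralizerIn S T ≤ S := inf_le_left
    have a6 : ∀ c (hc : c ∈ centralizerIn S T), α.1 ⟨c, hle hc⟩ = ⟨c, hle hc⟩ := fun c hc => by
      have a7 : (S.subtype.comp α.1.toMonoidHom).comp (inclusion hle) ∈ D.Hom _ := by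
        rw [hD]
        refine ⟨H93.restrict_mem F hle hm, le_rfl, fun x => ⟨(α.1 _).2, fun t ht => ?_⟩, _,
          H93.restrict_mem F (sup_le hle hT.1) hm, fun x => rfl,
          fun x => congrArg Subtype.val (a4 x.1 x.2)⟩
        have := congrArg (fun z => (α.1 z : Ω))
          (show (⟨t, hT.1 ht⟩ : S) * inclusion hle x = inclusion hle x * ⟨t, hT.1 ht⟩ from
            Subtype.ext (x.2.2 t ht))
        simp only [map_mul, a4 t ht] at this
        exact this
      have a8 := a5 (subset_closure ⟨_, _, ⟨c, hc⟩, a7, rfl⟩)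
      rw [sSup_eq_bot.2 fun Y hY => hC Y hY.1 hY.2, mem_bot, inv_mul_eq_one] at a8
      exact Subtype.ext a8.symm
    ext x
    obtain ⟨t, ht, hc⟩ := h1 x.1 x.2
    have : x = ⟨t, hT.1 ht⟩ * ⟨_, hle hc⟩ := Subtype.ext (by simp)
    rw [this, map_mul, a4 t ht, a6 _ hc]
    rfl
  have h3 : F.IsPPrimeResidual p F := ⟨hF, ⟨fun _ => subset_rfl, fun P _ => map_subtype_le _⟩,
    fun D _ hD P φ hφ => by
      obtain ⟨α, hα, φ₀, h4, h5⟩ := (Cfsg.Agent.S5114.result p hS F hF D hD.1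
        fun P hP => hD.2 P hP.1).2.1 P φ hφ
      have h6 := (H93.mem_autGroup D le_rfl).1 (hD.2 S le_rfl ⟨⟨α, hα⟩,
        subset_closure (IsPGroup.iff_orderOf.1 h2 _), rfl⟩)
      convert D.comp_mem h4 h6 (D.le_of_mem h4).2 using 1
      ext x
      exact h5 x _⟩
  obtain ⟨U, L, hL⟩ := H91.exists_residualLimit (hS.to_le hT.1) hE.1.1
  have hn : ((E.autGroup T).subgroupOf (F.autGroup T)).Normal := ⟨fun a ha g =>
    ((H91.isNormalIn_iff.1 hE).2.2.1.normalAut le_rfl).conj g.1 g.2 a.1 ha⟩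
  have h4 := Cfsg.Agent.S5201.result p hS F hF E hE (fun Y hY h => by
      obtain ⟨C, hC'⟩ := Cfsg.Agent.S5097.result F Y (hY.trans inf_le_left)
      rw [hC Y hY fun P => hC' P ▸ h C hC' P]
      exact bot_le)
    (by
      obtain ⟨m, hm⟩ := IsPGroup.iff_card.1
        (((pgroup_of_coprime hA).to_subgroup (F.autGroup T)).to_quotient
          ((E.autGroup T).subgroupOf (F.autGroup T)))
      refine ⟨1, ![⊥, ⊤], rfl, rfl, ?_, ?_, fun i => Or.inl ⟨m, ?_⟩⟩
      · intro i j hij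
        fin_cases i <;> fin_cases j <;> simp at hij ⊢
      · intro i
        fin_cases i <;> simp
      · fin_cases i
        simpa using hm)
    F (IsResidualLimitOf.stable F p hh h3) L hL
  exact fun P => h4 P ▸ H91.IsResidualLimitOf.sub hL P

omit [Finite S] in
theorem realized_of_sub {X : Type*} [Group X] (h : F.IsSubsystemOf E) (h' : E.IsSubsystemOf F)
    {C : Subgroup X → Prop} (hι : ∃ ι : T →* X, E.IsRealizedBy ι ∧ C ι.range) :
    ∃ ι : S →* X, F.IsRealizedBy ι ∧ C ι.range := by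
  obtain rfl : T = S := le_antisymm (F.le_of_mem (h' T (E.conj_mem le_rfl (one_mem T)))).1
    (E.le_of_mem (h S (F.conj_mem le_rfl (one_mem S)))).1
  obtain ⟨ι, h1, h2⟩ := hι
  exact ⟨ι, ⟨h1.1, fun P hP φ hφ => (Iff.intro (h P ·) (h' P ·)).trans (h1.2 P hP φ hφ)⟩, h2⟩

theorem hyp_eq {G : Type*} [Group G] [Finite G] [IsSimpleGroup G] (hG : ¬ IsMulCommutative G)
    (S : Sylow p G) : (groupFusionSystem (S : Subgroup G)).hyperfocalSubgroup p = S := by
  rw [Cfsg.Agent.S5093.result, H4.pResidual_eq_top_of_commutator_eq_top, inf_top_eq]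
  refine (IsSimpleGroup.eq_bot_or_eq_top_of_normal _ inferInstance).resolve_left fun h => hG ?_
  exact ⟨⟨fun a b => commutatorElement_eq_one_iff_mul_comm.1
    (mem_bot.1 (h ▸ commutator_mem_commutator (mem_top a) (mem_top b)))⟩⟩

end H14.LF
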